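import Cfsg.Agent.UniTri.Root

/-!
The special isometry group of an antidiagonal sesquilinear form `B(e_r, e_s) = ε r` if `s = rev r`, and its root
elements (short, long, middle), indexed by positions of the matrix.
-/

set_option autoImplicit false

namespace Cfsg.Agent.FormTri

open Matrix

variable {n : ℕ} {K : Type*} [Field K]

/-- An antidiagonal reflexive form with automorphism σ. -/
structure Ctx (n : ℕ) (K : Type*) [Field K] where
  σ : K →+* K
  κ : K
  ε : Fin n → K
  invol : ∀ x, σ (σ x) = x
  kap_sq : κ * κ = 1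
  kap_fix : σ κ = κ
  eps_sq : ∀ i, ε i * ε i = 1
  eps_fix : ∀ i, σ (ε i) = ε i
  eps_rev : ∀ i, ε i.rev = κ * ε i
  mid_kap : ∀ m : Fin n, m.rev = m → κ = 1
  mid_eps : ∀ m : Fin n, m.rev = m → ∀ i, ε i = 1
  mid_norm : ∀ m : Fin n, m.rev = m → ∀ t, σ t = t → ∃ a, a * σ a = t
  mid_trace : ∀ m : Fin n, m.rev = m → ∀ t, σ t = t → ∃ c, c + σ c = t
  exists_skew : ∃ c, c ≠ 0 ∧ c + κ * σ c = 0

/-- The underlying matrix. -/
local notation:max "⇈" A:max => ((A : SpecialLinearGroup (Fin n) K) : Matrix (Fin n) (Fin n) K)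

variable (C : Ctx n K)

/-- The Gram matrix. -/
def Ctx.J : Matrix (Fin n) (Fin n) K := Matrix.of fun r s => if s = r.rev then C.ε r else 0

theorem J_apply (r s : Fin n) : C.J r s = if s = r.rev then C.ε r else 0 := rfl

theorem J_mul_single (k l : Fin n) (x : K) : C.J * single k l x = single k.rev l (C.ε k.rev * x) := by
  ext r s
  rw [Matrix.mul_apply, Finset.sum_eq_single r.rev]
  · rw [J_apply, if_pos rfl, Matrix.single_apply, Matrix.single_apply]
    by_cases h : k = r.rev
    · subst h; simp [Fin.rev_rev]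
    · have : k.rev ≠ r := fun e => h (by rw [← e, Fin.rev_rev])
      simp [h, this]
  · intro b _ hb; rw [J_apply, if_neg hb, zero_mul]
  · simp

theorem single_mul_J (k l : Fin n) (x : K) : single k l x * C.J = single k l.rev (x * C.ε l) := by
  ext r s
  rw [Matrix.mul_apply, Finset.sum_eq_single l]
  · rw [J_apply, Matrix.single_apply, Matrix.single_apply]
    by_cases h : k = r
    · by_cases h2 : s = l.rev
      · simp [h, h2]
      · simp [h2, Ne.symm h2]
    · simp [h]
  · intro b _ hb; rw [Matrix.single_apply, if_neg (fun e => hb e.2.symm), zero_mul]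
  · simp

/-- The special isometry group of the form. -/
def Ctx.G : Subgroup (SpecialLinearGroup (Fin n) K) where
  carrier := {g | (⇈g)ᵀ * C.J * (⇈g).map C.σ = C.J}
  mul_mem' {a b} ha hb := by
    show (⇈a * ⇈b)ᵀ * C.J * (⇈a * ⇈b).map C.σ = C.J
    rw [Matrix.transpose_mul, Matrix.map_mul]
    calc _ = (⇈b)ᵀ * ((⇈a)ᵀ * C.J * (⇈a).map C.σ) * (⇈b).map C.σ := by simp only [Matrix.mul_assoc]
      _ = _ := by rw [ha, hb]
  one_mem' := by
    show (1 : Matrix (Fin n) (Fin n) K)ᵀ * C.J * (1 : Matrix (Fin n) (Fin n) K).map C.σ = C.J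
    simp
  inv_mem' {a} ha := by
    have h1 : ⇈a * ⇈(a⁻¹) = 1 := congrArg (fun X : SpecialLinearGroup (Fin n) K => ⇈X) (mul_inv_cancel a)
    show (⇈(a⁻¹))ᵀ * C.J * (⇈(a⁻¹)).map C.σ = C.J
    conv_lhs => rw [← ha]
    calc _ = (⇈a * ⇈(a⁻¹))ᵀ * C.J * (⇈a * ⇈(a⁻¹)).map C.σ := by
            simp only [Matrix.transpose_mul, Matrix.map_mul, Matrix.mul_assoc]
      _ = _ := by rw [h1]; simp

theorem mem_G {g : SpecialLinearGroup (Fin n) K} :
    g ∈ C.G ↔ (⇈g)ᵀ * C.J * (⇈g).map C.σ = C.J := Iff.rfl

/-- Entrywise form of the isometry condition. -/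
theorem sum_eq {g : SpecialLinearGroup (Fin n) K} (hg : g ∈ C.G) (a b : Fin n) :
    ∑ r, C.ε r * ⇈g r a * C.σ (⇈g r.rev b) = if b = a.rev then C.ε a else 0 := by
  have h := congrFun (congrFun hg a) b
  rw [Matrix.mul_assoc, Matrix.mul_apply, J_apply] at h
  rw [← h]
  refine Finset.sum_congr rfl fun r _ => ?_
  rw [Matrix.transpose_apply, Matrix.mul_apply, Finset.sum_eq_single r.rev]
  · rw [J_apply, if_pos rfl, Matrix.map_apply]; ring
  · intro c _ hc; rw [J_apply, if_neg hc, zero_mul]
  · simp

theorem mem_G_one_add {g : SpecialLinearGroup (Fin n) K} {X : Matrix (Fin n) (Fin n) K} (hX : ⇈g = 1 + X) :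
    g ∈ C.G ↔ Xᵀ * C.J + C.J * X.map C.σ + Xᵀ * C.J * X.map C.σ = 0 := by
  rw [mem_G, hX, Matrix.transpose_add, Matrix.transpose_one, Matrix.map_add _ (map_add C.σ),
    Matrix.map_one _ (map_zero C.σ) (map_one C.σ), Matrix.add_mul, Matrix.one_mul, Matrix.mul_add, Matrix.mul_one,
    Matrix.add_mul]
  constructor
  · intro h
    have := sub_eq_zero.2 h
    rw [← this]; abel
  · intro h
    conv_rhs => rw [← add_zero C.J, ← h]
    abel

/-- Product of two elementary matrices with distinct inner indices. -/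
theorem single_mul_ne {i j k l : Fin n} (h : j ≠ k) (x y : K) : single i j x * single k l y = 0 :=
  Matrix.single_mul_single_of_ne (h := h) ..

theorem map_single' (k l : Fin n) (x : K) :
    (single k l x).map C.σ = single k l (C.σ x) := Matrix.map_single k l x C.σ

/-- The mirrored coefficient of a short root element. -/
def Ctx.partner (i j : Fin n) (a : K) : K := -(C.σ a * C.ε i.rev * C.ε j.rev)

/-- Admissible index pair for a short root element. -/
structure Short (i j : Fin n) : Prop where
  ne : i ≠ j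
  neRev : i ≠ j.rev
  moved : i.rev ≠ i
  moved' : j.rev ≠ j

theorem Short.symm {i j : Fin n} (h : Short i j) : Short j i :=
  ⟨h.ne.symm, fun e => h.neRev (by rw [e, Fin.rev_rev]), h.moved', h.moved⟩

theorem Short.rev_right {i j : Fin n} (h : Short i j) : Short i j.rev :=
  ⟨h.neRev, by rw [Fin.rev_rev]; exact h.ne, h.moved, by rw [Fin.rev_rev]; exact h.moved'.symm⟩

theorem Short.rev_ne {i j : Fin n} (h : Short i j) : j.rev ≠ i.rev := fun e => h.ne (Fin.rev_injective e).symm

theorem Short.ne_rev_left {i j : Fin n} (h : Short i j) : j ≠ i.rev := fun e => h.neRev (by rw [e, Fin.rev_rev])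

/-- The short root element as an element of SL. -/
def shortSL {i j : Fin n} (h : Short i j) (a : K) : SpecialLinearGroup (Fin n) K :=
  SpecialLinearGroup.transvection h.ne a * SpecialLinearGroup.transvection h.rev_ne (C.partner i j a)

theorem shortSL_coe {i j : Fin n} (h : Short i j) (a : K) :
    ⇈(shortSL C h a) = 1 + (single i j a + single j.rev i.rev (C.partner i j a)) := by
  show (1 + single i j a) * (1 + single j.rev i.rev _) = _
  rw [Matrix.add_mul, Matrix.one_mul, Matrix.mul_add, Matrix.mul_one,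
    Matrix.single_mul_single_of_ne (h := h.moved'.symm), add_zero]
  abel

theorem shortSL_mem {i j : Fin n} (h : Short i j) (a : K) : shortSL C h a ∈ C.G := by
  rw [mem_G_one_add C (shortSL_coe C h a)]
  set b := C.partner i j a with hb
  simp only [Matrix.transpose_add, Matrix.transpose_single, Matrix.map_add _ (map_add C.σ), map_single',
    Matrix.add_mul, Matrix.mul_add, single_mul_J, J_mul_single, Fin.rev_rev]
  rw [Matrix.single_mul_single_of_ne (h := h.moved), Matrix.single_mul_single_of_ne (h := h.rev_ne.symm),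
    Matrix.single_mul_single_of_ne (h := h.ne.symm), Matrix.single_mul_single_of_ne (h := h.moved'.symm)]
  simp only [add_zero, zero_add]
  have e1 : a * C.ε i + C.ε j * C.σ b = 0 := by
    rw [hb, Ctx.partner, map_neg, map_mul, map_mul, C.invol, C.eps_fix, C.eps_fix, C.eps_rev, C.eps_rev]
    linear_combination (-(a * C.ε i * (C.κ * C.κ))) * C.eps_sq j - (a * C.ε i) * C.kap_sq
  have e2 : b * C.ε j.rev + C.ε i.rev * C.σ a = 0 := by
    rw [hb, Ctx.partner]
    linear_combination (-(C.σ a * C.ε i.rev)) * C.eps_sq j.rev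
  calc _ = single j i.rev (a * C.ε i + C.ε j * C.σ b) + single i.rev j (b * C.ε j.rev + C.ε i.rev * C.σ a) := by
        simp only [Matrix.single_add]; abel
    _ = 0 := by rw [e1, e2]; simp

/-- The long root element as an element of SL. -/
def longSL {i : Fin n} (h : i.rev ≠ i) (c : K) : SpecialLinearGroup (Fin n) K :=
  SpecialLinearGroup.transvection h.symm c

theorem longSL_coe {i : Fin n} (h : i.rev ≠ i) (c : K) : ⇈(longSL h c) = 1 + single i i.rev c := rfl

theorem longSL_mem {i : Fin n} (h : i.rev ≠ i) {c : K} (hc : c + C.κ * C.σ c = 0) : longSL h c ∈ C.G := by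
  rw [mem_G_one_add C (longSL_coe h c)]
  simp only [Matrix.transpose_single, map_single', single_mul_J, J_mul_single]
  rw [Matrix.single_mul_single_of_ne (h := h), add_zero, ← Matrix.single_add, C.eps_rev,
    show c * C.ε i + C.κ * C.ε i * C.σ c = 0 by linear_combination C.ε i * hc, Matrix.single_zero]

/-- The middle root element as an element of SL. -/
def midSL {i m : Fin n} (hi : i.rev ≠ i) (hm : m.rev = m) (a c : K) : SpecialLinearGroup (Fin n) K :=
  SpecialLinearGroup.transvection (show i ≠ m from fun e => hi (e ▸ hm)) a *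
    SpecialLinearGroup.transvection (show m ≠ i.rev from fun e => hi (by
      have := congrArg Fin.rev e
      rw [Fin.rev_rev, hm] at this
      rw [← this] at *
      exact hm)) (-(C.σ a)) *
    SpecialLinearGroup.transvection hi.symm (c + a * C.σ a)

theorem midSL_coe {i m : Fin n} (hi : i.rev ≠ i) (hm : m.rev = m) (a c : K) :
    ⇈(midSL C hi hm a c) = 1 + (single i m a + single m i.rev (-(C.σ a)) + single i i.rev c) := by
  have hmi : m ≠ i := fun e => hi (e ▸ hm)
  show (1 + single i m a) * (1 + single m i.rev _) * (1 + single i i.rev _) = _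
  simp only [Matrix.add_mul, Matrix.one_mul, Matrix.mul_add, Matrix.mul_one, Matrix.single_mul_single_same,
    single_mul_ne hmi, single_mul_ne hi, add_zero]
  rw [Matrix.single_add, mul_neg, ← Matrix.single_neg, ← Matrix.single_neg]
  abel

theorem midSL_mem {i m : Fin n} (hi : i.rev ≠ i) (hm : m.rev = m) {a c : K}
    (hc : c + C.σ c + a * C.σ a = 0) : midSL C hi hm a c ∈ C.G := by
  have hmi : m ≠ i := fun e => hi (e ▸ hm)
  have hmi' : m ≠ i.rev := fun e => hmi (by rw [← Fin.rev_rev i, ← e, hm])
  rw [mem_G_one_add C (midSL_coe C hi hm a c)]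
  simp only [Matrix.transpose_add, Matrix.transpose_single, Matrix.map_add _ (map_add C.σ), map_single',
    Matrix.add_mul, Matrix.mul_add, single_mul_J, J_mul_single, Fin.rev_rev, hm, C.mid_eps m hm, one_mul, mul_one]
  simp only [Matrix.single_mul_single_same, single_mul_ne hi,
    single_mul_ne hmi, single_mul_ne hmi',
    single_mul_ne hmi.symm, single_mul_ne hmi'.symm,
    single_mul_ne hi.symm, map_neg, C.invol, add_zero, zero_add]
  calc _ = single m i.rev (a + -a) + single i.rev m (-(C.σ a) + C.σ a) +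
        single i.rev i.rev (c + C.σ c + -(C.σ a) * -a) := by
        simp only [Matrix.single_add]; abel
    _ = 0 := by rw [show c + C.σ c + -(C.σ a) * -a = 0 by linear_combination hc]; simp

end Cfsg.Agent.FormTri
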