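import Cfsg.Agent.FormTri.Basic

/-!
Calculus of the root elements of the antidiagonal form group: uniqueness, products, commutator formulas, monomial
elements and conjugation by them.
-/

set_option autoImplicit false

namespace Cfsg.Agent.FormTri

open Matrix

variable {n : ℕ} {K : Type*} [Field K]

/-- The underlying matrix. -/
local notation:max "⇈" A:max => ((A : SpecialLinearGroup (Fin n) K) : Matrix (Fin n) (Fin n) K)

theorem single_mul_ite (i j k l : Fin n) (x y : K) :
    single i j x * single k l y = if j = k then single i l (x * y) else 0 := by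
  split_ifs with h
  · subst h; exact Matrix.single_mul_single_same ..
  · exact single_mul_ne h x y

theorem coe_mul' (A B : SpecialLinearGroup (Fin n) K) : ⇈(A * B) = ⇈A * ⇈B := rfl

variable {C : Ctx n K}

/-- A group element of the shape of a short root element is one. -/
theorem eq_short {i j : Fin n} (h : Short i j) {g : SpecialLinearGroup (Fin n) K} (hg : g ∈ C.G) {a b : K}
    (e : ⇈g = 1 + (single i j a + single j.rev i.rev b)) : g = shortSL C h a := by
  refine UniTri.sl_ext fun r l => ?_
  rw [e, shortSL_coe]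
  have h0 := (mem_G_one_add C e).1 hg
  simp only [Matrix.transpose_add, Matrix.transpose_single, Matrix.map_add _ (map_add C.σ), map_single',
    Matrix.add_mul, Matrix.mul_add, single_mul_J, J_mul_single, Fin.rev_rev] at h0
  rw [single_mul_ne h.moved, single_mul_ne h.rev_ne.symm, single_mul_ne h.ne.symm, single_mul_ne h.moved'.symm] at h0
  have h1 := congrFun (congrFun h0 i.rev) j
  have n1 : ¬ (j = i.rev) := h.ne_rev_left
  simp [Matrix.single_apply, n1, Ne.symm n1] at h1
  have hb : b = C.partner i j a := by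
    rw [Ctx.partner]
    linear_combination (C.ε j.rev) * h1 + (-b) * C.eps_sq j.rev
  rw [hb]

theorem shortSL_add {i j : Fin n} (h : Short i j) (a b : K) :
    shortSL C h a * shortSL C h b = shortSL C h (a + b) := by
  refine eq_short h (b := C.partner i j a + C.partner i j b) (C.G.mul_mem (shortSL_mem C h a) (shortSL_mem C h b)) ?_
  rw [coe_mul', shortSL_coe, shortSL_coe, Matrix.single_add, Matrix.single_add]
  simp only [Matrix.add_mul, Matrix.one_mul, Matrix.mul_add, Matrix.mul_one, single_mul_ne h.ne.symm,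
    single_mul_ne h.neRev.symm.symm.symm, single_mul_ne h.moved'.symm, single_mul_ne h.moved,
    single_mul_ne h.rev_ne.symm, add_zero]
  abel

theorem shortSL_zero {i j : Fin n} (h : Short i j) : shortSL C h 0 = 1 :=
  (mul_eq_left.1 ((shortSL_add (C := C) h 0 0).trans (by rw [add_zero])))

theorem shortSL_inv {i j : Fin n} (h : Short i j) (a : K) : (shortSL C h a)⁻¹ = shortSL C h (-a) :=
  inv_eq_of_mul_eq_one_right (by rw [shortSL_add, add_neg_cancel, shortSL_zero])

theorem longSL_add {i : Fin n} (h : i.rev ≠ i) (c d : K) : longSL h c * longSL h d = longSL h (c + d) :=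
  (Matrix.SpecialLinearGroup.transvection_add h.symm c d).symm

theorem longSL_zero {i : Fin n} (h : i.rev ≠ i) : longSL (K := K) h 0 = 1 :=
  Matrix.SpecialLinearGroup.transvection_coeff_zero _

theorem longSL_inv {i : Fin n} (h : i.rev ≠ i) (c : K) : (longSL h c)⁻¹ = longSL h (-c) :=
  inv_eq_of_mul_eq_one_right (by rw [longSL_add, add_neg_cancel, longSL_zero])

/-- Commutator of two short root elements with a common index. -/
theorem comm_short_short {i j k : Fin n} (hij : Short i j) (hjk : Short j k) (hik : Short i k) (a b : K) :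
    shortSL C hij a * shortSL C hjk b * (shortSL C hij a)⁻¹ * (shortSL C hjk b)⁻¹ = shortSL C hik (a * b) := by
  refine eq_short hik (b := -(C.partner j k b * C.partner i j a)) ?_ ?_
  · exact C.G.mul_mem (C.G.mul_mem (C.G.mul_mem (shortSL_mem C _ a) (shortSL_mem C _ b))
      (C.G.inv_mem (shortSL_mem C _ a))) (C.G.inv_mem (shortSL_mem C _ b))
  · rw [shortSL_inv, shortSL_inv]
    simp only [coe_mul', shortSL_coe]
    have p : C.partner i j (-a) = -C.partner i j a := by rw [Ctx.partner, Ctx.partner, map_neg]; ring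
    have p' : C.partner j k (-b) = -C.partner j k b := by rw [Ctx.partner, Ctx.partner, map_neg]; ring
    rw [p, p']
    simp only [Matrix.add_mul, Matrix.one_mul, Matrix.mul_add, Matrix.mul_one, single_mul_ite, ← Matrix.single_neg,
      Matrix.neg_mul, Matrix.mul_neg, hij.ne, hij.ne.symm, hij.neRev, hij.neRev.symm, hij.ne_rev_left,
      hij.ne_rev_left.symm, hij.rev_ne, hij.rev_ne.symm, hij.moved, hij.moved.symm, hij.moved', hij.moved'.symm,
      hjk.ne, hjk.ne.symm, hjk.neRev, hjk.neRev.symm, hjk.ne_rev_left, hjk.ne_rev_left.symm, hjk.rev_ne,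
      hjk.rev_ne.symm, hjk.moved, hjk.moved.symm, hjk.moved', hjk.moved'.symm,
      hik.ne, hik.ne.symm, hik.neRev, hik.neRev.symm, hik.ne_rev_left, hik.ne_rev_left.symm, hik.rev_ne,
      hik.rev_ne.symm, if_true, if_false, add_zero, zero_add, neg_zero, neg_neg, mul_neg, neg_mul]
    abel

/-- Commutator of a short and a long root element. -/
theorem comm_short_long {i j : Fin n} (h : Short i j) (a : K) {c : K} (hc : c + C.κ * C.σ c = 0) :
    shortSL C h a * longSL h.moved' c * (shortSL C h a)⁻¹ * (longSL h.moved' c)⁻¹ =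
      shortSL C h.rev_right (a * c) * longSL h.moved (-(a * C.partner i j a * c)) := by
  have hG : shortSL C h a * longSL h.moved' c * (shortSL C h a)⁻¹ * (longSL h.moved' c)⁻¹ *
      (longSL h.moved (-(a * C.partner i j a * c)))⁻¹ ∈ C.G := by
    refine C.G.mul_mem (C.G.mul_mem (C.G.mul_mem (C.G.mul_mem (shortSL_mem C _ a) (longSL_mem C _ hc))
      (C.G.inv_mem (shortSL_mem C _ a))) (C.G.inv_mem (longSL_mem C _ hc))) (C.G.inv_mem (longSL_mem C _ ?_))
    have hs : C.κ * C.σ c = -c := by linear_combination hc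
    rw [Ctx.partner, map_neg, map_mul, map_mul, map_neg, map_mul, map_mul, C.invol, C.eps_fix, C.eps_fix]
    linear_combination (a * C.σ a * C.ε i.rev * C.ε j.rev) * hs
  rw [← mul_inv_eq_iff_eq_mul]
  refine eq_short h.rev_right (b := -(c * C.partner i j a)) hG ?_
  rw [shortSL_inv, longSL_inv, longSL_inv]
  simp only [coe_mul', shortSL_coe, longSL_coe, Fin.rev_rev]
  have p : C.partner i j (-a) = -C.partner i j a := by rw [Ctx.partner, Ctx.partner, map_neg]; ring
  rw [p]
  simp only [Matrix.add_mul, Matrix.one_mul, Matrix.mul_add, Matrix.mul_one, single_mul_ite, ← Matrix.single_neg,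
    Matrix.neg_mul, Matrix.mul_neg, h.ne, h.ne.symm, h.neRev, h.neRev.symm, h.ne_rev_left, h.ne_rev_left.symm,
    h.rev_ne, h.rev_ne.symm, h.moved, h.moved.symm, h.moved', h.moved'.symm, if_true, if_false, add_zero, zero_add,
    neg_zero, neg_neg, mul_neg, neg_mul]
  rw [show a * c * C.partner i j a = a * C.partner i j a * c by ring]
  abel

theorem mid_ne {i m : Fin n} (hi : i.rev ≠ i) (hm : m.rev = m) : m ≠ i ∧ m ≠ i.rev :=
  ⟨fun e => hi (e ▸ hm), fun e => hi (by rw [← e, ← hm, e, Fin.rev_rev])⟩

theorem midSL_mul {i m : Fin n} (hi : i.rev ≠ i) (hm : m.rev = m) (a c a' c' : K) :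
    ⇈(midSL C hi hm a c * midSL C hi hm a' c') =
      1 + (single i m (a + a') + single m i.rev (-(C.σ (a + a'))) + single i i.rev (c + c' - a * C.σ a')) := by
  obtain ⟨n1, n2⟩ := mid_ne hi hm
  simp only [coe_mul', midSL_coe, map_add, neg_add, sub_eq_add_neg, Matrix.single_add, ← Matrix.single_neg]
  simp only [Matrix.add_mul, Matrix.one_mul, Matrix.mul_add, Matrix.mul_one, single_mul_ite, Matrix.neg_mul,
    Matrix.mul_neg, n1, n1.symm, n2, n2.symm, hi, hi.symm, if_true, if_false, add_zero, zero_add, neg_zero]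
  abel

theorem midSL_inv {i m : Fin n} (hi : i.rev ≠ i) (hm : m.rev = m) {a c : K} (hc : c + C.σ c + a * C.σ a = 0) :
    (midSL C hi hm a c)⁻¹ = midSL C hi hm (-a) (C.σ c) := by
  refine inv_eq_of_mul_eq_one_right (UniTri.sl_ext fun r l => ?_)
  rw [midSL_mul, show c + C.σ c - a * C.σ (-a) = 0 by rw [map_neg]; linear_combination hc]
  simp

/-- Commutator of a short and a middle root element. -/
theorem comm_short_mid {i j m : Fin n} (h : Short i j) (hm : m.rev = m) (a : K) {b c : K}
    (hc : c + C.σ c + b * C.σ b = 0) :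
    shortSL C h a * midSL C h.moved' hm b c * (shortSL C h a)⁻¹ * (midSL C h.moved' hm b c)⁻¹ =
      midSL C h.moved hm (a * b) (a * C.σ a * c) * shortSL C h.rev_right (-(a * C.σ c)) := by
  obtain ⟨n1, n2⟩ := mid_ne h.moved hm
  obtain ⟨n3, n4⟩ := mid_ne h.moved' hm
  refine UniTri.sl_ext fun r l => congrFun (congrFun ?_ r) l
  rw [midSL_inv h.moved' hm hc, shortSL_inv]
  simp only [coe_mul', shortSL_coe, midSL_coe, Ctx.partner, C.mid_eps m hm, mul_one, map_neg, map_mul, C.invol,
    neg_neg, Fin.rev_rev]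
  have hc' : C.σ c = -c + -(b * C.σ b) := by linear_combination hc
  simp only [hc', mul_add, mul_neg, neg_add_rev, neg_neg, Matrix.single_add, ← Matrix.single_neg]
  simp only [Matrix.add_mul, Matrix.one_mul, Matrix.mul_add, Matrix.mul_one, single_mul_ite, Matrix.neg_mul,
    Matrix.mul_neg, ← Matrix.single_neg, h.ne, h.ne.symm, h.neRev, h.neRev.symm, h.ne_rev_left, h.ne_rev_left.symm,
    h.rev_ne, h.rev_ne.symm, h.moved, h.moved.symm, h.moved', h.moved'.symm, n1, n1.symm, n2, n2.symm,
    n3, n3.symm, n4, n4.symm, if_true, if_false, add_zero, zero_add, neg_zero, neg_neg, mul_add, add_mul, mul_neg,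
    neg_mul, Matrix.single_add]
  simp only [mul_assoc, mul_comm, mul_left_comm, ← Matrix.single_neg]
  abel

/-- A monomial matrix. -/
def IsMono (g : SpecialLinearGroup (Fin n) K) (π : Equiv.Perm (Fin n)) (d : Fin n → K) : Prop :=
  ∀ r l, ⇈g r l = if r = π l then d l else 0

theorem IsMono.ne_zero {g : SpecialLinearGroup (Fin n) K} {π : Equiv.Perm (Fin n)} {d : Fin n → K}
    (h : IsMono g π d) (l : Fin n) : d l ≠ 0 := fun h0 => by
  have h1 := g.2
  rw [Matrix.det_eq_zero_of_column_eq_zero l fun r => by rw [h]; split_ifs <;> simp [h0]] at h1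
  exact zero_ne_one h1

theorem IsMono.conj_single {g : SpecialLinearGroup (Fin n) K} {π : Equiv.Perm (Fin n)} {d : Fin n → K}
    (h : IsMono g π d) (k l : Fin n) (x : K) :
    ⇈g * single k l x * ⇈(g⁻¹) = single (π k) (π l) (d k * x / d l) := by
  have e : ⇈g * single k l x = single (π k) (π l) (d k * x / d l) * ⇈g := by
    ext r s
    rw [Matrix.mul_apply, Matrix.mul_apply, Finset.sum_eq_single k, Finset.sum_eq_single (π l)]
    · rw [h, h, Matrix.single_apply, Matrix.single_apply]
      by_cases h1 : r = π k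
      · by_cases h2 : l = s
        · subst h2; simp [h1, h.ne_zero l]
        · simp [h1, h2]
      · simp [h1, Ne.symm h1]
    · intro b _ hb; rw [Matrix.single_apply, if_neg (fun e => hb e.2.symm), zero_mul]
    · simp
    · intro b _ hb; rw [Matrix.single_apply, if_neg (fun e => hb e.1.symm), mul_zero]
    · simp
  rw [e, Matrix.mul_assoc, ← coe_mul', mul_inv_cancel]
  exact Matrix.mul_one _

theorem IsMono.conj_one_add {g : SpecialLinearGroup (Fin n) K} {π : Equiv.Perm (Fin n)} {d : Fin n → K}
    (h : IsMono g π d) {x : SpecialLinearGroup (Fin n) K} {k l k' l' : Fin n} {a b : K}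
    (e : ⇈x = 1 + (single k l a + single k' l' b)) :
    ⇈(g * x * g⁻¹) =
      1 + (single (π k) (π l) (d k * a / d l) + single (π k') (π l') (d k' * b / d l')) := by
  rw [coe_mul', coe_mul', e, Matrix.mul_add, Matrix.add_mul, Matrix.mul_add, Matrix.add_mul, h.conj_single,
    h.conj_single, Matrix.mul_one, ← coe_mul', mul_inv_cancel]
  rfl

/-- Conjugate of a short root element by a monomial element. -/
theorem IsMono.conj_short {g : SpecialLinearGroup (Fin n) K} {π : Equiv.Perm (Fin n)} {d : Fin n → K}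
    (h : IsMono g π d) (hg : g ∈ C.G) (hπ : ∀ x, π x.rev = (π x).rev) {i j : Fin n} (hij : Short i j)
    (h' : Short (π i) (π j)) (a : K) :
    g * shortSL C hij a * g⁻¹ = shortSL C h' (d i * a / d j) := by
  refine eq_short h' (C.G.mul_mem (C.G.mul_mem hg (shortSL_mem C _ a)) (C.G.inv_mem hg))
    (b := d j.rev * C.partner i j a / d i.rev) ?_
  rw [h.conj_one_add (shortSL_coe C hij a), hπ, hπ]

/-- Conjugate of a long root element by a monomial element. -/
theorem IsMono.conj_long {g : SpecialLinearGroup (Fin n) K} {π : Equiv.Perm (Fin n)} {d : Fin n → K}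
    (h : IsMono g π d) (hπ : ∀ x, π x.rev = (π x).rev) {i : Fin n} (hi : i.rev ≠ i)
    (h' : (π i).rev ≠ π i) (c : K) :
    g * longSL hi c * g⁻¹ = longSL h' (d i * c / d i.rev) := by
  refine UniTri.sl_ext fun r l => ?_
  rw [coe_mul', coe_mul', longSL_coe, Matrix.mul_add, Matrix.add_mul, h.conj_single, hπ, Matrix.mul_one, ← coe_mul',
    mul_inv_cancel, longSL_coe]
  rfl

theorem IsMono.div {g h : SpecialLinearGroup (Fin n) K} {π : Equiv.Perm (Fin n)} {d d' : Fin n → K}
    (hg : IsMono g π d) (hh : IsMono h π d') :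
    ⇈(g * h⁻¹) = Matrix.diagonal fun r => d (π.symm r) / d' (π.symm r) := by
  have e : ⇈g = (Matrix.diagonal fun r => d (π.symm r) / d' (π.symm r)) * ⇈h := by
    ext r l
    rw [Matrix.diagonal_mul, hh, hg]
    by_cases h1 : r = π l
    · subst h1; simp [hh.ne_zero l]
    · simp [h1]
  rw [coe_mul', e, Matrix.mul_assoc, ← coe_mul', mul_inv_cancel]
  exact Matrix.mul_one _

/-- The element exchanging a pair of indices. -/
def wShort (C : Ctx n K) {i j : Fin n} (h : Short i j) (s : K) : SpecialLinearGroup (Fin n) K :=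
  shortSL C h s * shortSL C h.symm (-s⁻¹) * shortSL C h s

theorem wShort_mem {i j : Fin n} (h : Short i j) (s : K) : wShort C h s ∈ C.G :=
  C.G.mul_mem (C.G.mul_mem (shortSL_mem C _ _) (shortSL_mem C _ _)) (shortSL_mem C _ _)

/-- The coefficients of `wShort`. -/
def wShortD (C : Ctx n K) (i j : Fin n) (s : K) : Fin n → K := fun l =>
  if l = j then s else if l = i then -s⁻¹
  else if l = i.rev then C.partner i j s else if l = j.rev then C.partner j i (-s⁻¹) else 1

theorem wShort_mono {i j : Fin n} (h : Short i j) {s : K} (hs : s ≠ 0) :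
    IsMono (wShort C h s) (Equiv.swap i j * Equiv.swap i.rev j.rev) (wShortD C i j s) := by
  intro r l
  have hp : C.partner i j s * C.partner j i (-s⁻¹) = -1 := by
    have hs' : C.σ s ≠ 0 := fun e => hs (by rw [← C.invol s, e, map_zero])
    rw [Ctx.partner, Ctx.partner, map_neg, map_inv₀]
    field_simp
    linear_combination (-(C.ε j.rev * C.ε j.rev)) * C.eps_sq i.rev - C.eps_sq j.rev
  have e : ⇈(wShort C h s) = 1 + (single i j s + single j i (-s⁻¹) + single j.rev i.rev (C.partner i j s) +
      single i.rev j.rev (C.partner j i (-s⁻¹)) + single i i (-1) + single j j (-1) + single i.rev i.rev (-1) +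
      single j.rev j.rev (-1)) := by
    simp only [wShort, coe_mul', shortSL_coe, Matrix.add_mul, Matrix.one_mul, Matrix.mul_add, Matrix.mul_one,
      single_mul_ite, h.ne, h.ne.symm, h.neRev, h.neRev.symm, h.ne_rev_left, h.ne_rev_left.symm,
      h.rev_ne, h.rev_ne.symm, h.moved, h.moved.symm, h.moved', h.moved'.symm, if_true, if_false, add_zero, zero_add]
    simp only [mul_neg, neg_mul, inv_mul_cancel₀ hs, mul_inv_cancel₀ hs, neg_neg, one_mul, mul_one, hp,
      mul_comm (C.partner j i (-s⁻¹)), ← Matrix.single_neg]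
    abel
  rw [e, Matrix.add_apply, Equiv.Perm.mul_apply]
  simp only [Matrix.add_apply, Matrix.single_apply, Matrix.one_apply, wShortD]
  clear e hp
  have := h.ne; have := h.neRev; have := h.ne_rev_left; have := h.rev_ne; have := h.moved; have := h.moved'
  have := h.ne.symm; have := h.neRev.symm; have := h.ne_rev_left.symm; have := h.rev_ne.symm
  have := h.moved.symm; have := h.moved'.symm
  by_cases hj : l = j
  · subst hj; simp [Equiv.swap_apply_of_ne_of_ne, *]; split_ifs <;> grind
  by_cases hi : l = i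
  · subst hi; simp [Equiv.swap_apply_of_ne_of_ne, *]; split_ifs <;> grind
  by_cases hi' : l = i.rev
  · subst hi'; simp [Equiv.swap_apply_of_ne_of_ne, *]; split_ifs <;> grind
  by_cases hj' : l = j.rev
  · subst hj'; simp [Equiv.swap_apply_of_ne_of_ne, *]; split_ifs <;> grind
  simp [Equiv.swap_apply_of_ne_of_ne, *, Ne.symm hj, Ne.symm hi, Ne.symm hi', Ne.symm hj']

/-- The element exchanging an index and its mirror. -/
def wLong {i : Fin n} (h : i.rev ≠ i) (c : K) : SpecialLinearGroup (Fin n) K :=
  longSL h c * SpecialLinearGroup.transvection h (-c⁻¹) * longSL h c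

/-- The coefficients of `wLong`. -/
def wLongD (i : Fin n) (c : K) : Fin n → K := fun l =>
  if l = i.rev then c else if l = i then -c⁻¹ else 1

theorem long_rev_mem {i : Fin n} (h : i.rev ≠ i) {c : K} (hc0 : c ≠ 0) (hc : c + C.κ * C.σ c = 0) :
    SpecialLinearGroup.transvection h (-c⁻¹) ∈ C.G := by
  have h' : i.rev.rev ≠ i.rev := by rw [Fin.rev_rev]; exact h.symm
  have e : SpecialLinearGroup.transvection h (-c⁻¹) = longSL h' (-c⁻¹) := by
    refine UniTri.sl_ext fun r l => ?_
    rw [longSL_coe, Fin.rev_rev]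
    rfl
  rw [e]
  refine longSL_mem C h' ?_
  have hs : C.σ c = -(C.κ * c) := by linear_combination C.κ * hc + (-(C.σ c)) * C.kap_sq
  have hk : C.κ ≠ 0 := fun e => one_ne_zero (by rw [← C.kap_sq, e, zero_mul])
  rw [map_neg, map_inv₀, hs]
  field_simp
  simp

theorem wLong_mem {i : Fin n} (h : i.rev ≠ i) {c : K} (hc0 : c ≠ 0) (hc : c + C.κ * C.σ c = 0) :
    wLong h c ∈ C.G :=
  C.G.mul_mem (C.G.mul_mem (longSL_mem C h hc) (long_rev_mem h hc0 hc)) (longSL_mem C h hc)

theorem wLong_mono {i : Fin n} (h : i.rev ≠ i) {c : K} (hc : c ≠ 0) :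
    IsMono (wLong h c) (Equiv.swap i i.rev) (wLongD i c) := by
  intro r l
  have e : ⇈(wLong h c) =
      1 + (single i i.rev c + single i.rev i (-c⁻¹) + single i i (-1) + single i.rev i.rev (-1)) := by
    simp only [wLong, coe_mul', longSL_coe]
    show (1 + single i i.rev c) * (1 + single i.rev i (-c⁻¹)) * (1 + single i i.rev c) = _
    simp only [Matrix.add_mul, Matrix.one_mul, Matrix.mul_add, Matrix.mul_one, single_mul_ite, h, h.symm,
      if_true, if_false, add_zero, zero_add]
    simp only [mul_neg, neg_mul, inv_mul_cancel₀ hc, mul_inv_cancel₀ hc, neg_neg, one_mul, mul_one,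
      ← Matrix.single_neg]
    abel
  rw [e]
  simp only [Matrix.add_apply, Matrix.single_apply, Matrix.one_apply, wLongD]
  clear e
  have := h.symm
  by_cases hj : l = i.rev
  · subst hj; simp [h, h.symm]; split_ifs <;> grind
  by_cases hi : l = i
  · subst hi; simp [h, h.symm]; split_ifs <;> grind
  simp [Equiv.swap_apply_of_ne_of_ne, *, Ne.symm hj, Ne.symm hi]

end Cfsg.Agent.FormTri
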