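import Cfsg.Agent.FormTri.Tri

/-!
The centre of the unipotent group of the antidiagonal form group.
-/

set_option autoImplicit false

namespace Cfsg.Agent.FormTri

open Matrix

variable {n : ℕ} {K : Type*} [Field K] {C : Ctx n K}

/-- The underlying matrix. -/
local notation:max "⇈" A:max => ((A : SpecialLinearGroup (Fin n) K) : Matrix (Fin n) (Fin n) K)

/-- The first index. -/
def i0 (hn : 4 ≤ n) : Fin n := ⟨0, by omega⟩

/-- The second index. -/
def i1 (hn : 4 ≤ n) : Fin n := ⟨1, by omega⟩

theorem i0_le (hn : 4 ≤ n) (x : Fin n) : i0 hn ≤ x := Fin.le_def.2 (Nat.zero_le _)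

theorem i0_lt_i1 (hn : 4 ≤ n) : i0 hn < i1 hn := Fin.lt_def.2 (Nat.one_pos)

theorem i1_lt_rev (hn : 4 ≤ n) : i1 hn < (i1 hn).rev :=
  Fin.lt_def.2 (by simp only [i1, Fin.val_rev]; omega)

theorem i0_lt_rev (hn : 4 ≤ n) : i0 hn < (i0 hn).rev :=
  Fin.lt_def.2 (by simp only [i0, Fin.val_rev]; omega)

theorem i1_lt_i0_rev (hn : 4 ≤ n) : i1 hn < (i0 hn).rev :=
  Fin.lt_def.2 (by simp only [i0, i1, Fin.val_rev]; omega)

theorem short01 (hn : 4 ≤ n) : Short (i0 hn) (i1 hn) :=
  short_of_lt (i0_lt_i1 hn) (i1_lt_i0_rev hn) (i1_lt_rev hn).ne'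

theorem short_of_half {i j : Fin n} (h : i < j) (hj : j < j.rev) : Short i j :=
  short_of_lt h (hj.trans (Fin.rev_lt_rev.2 h)) hj.ne'

theorem partner_one_ne_zero (i j : Fin n) : C.partner i j 1 ≠ 0 := by
  intro h
  rw [Ctx.partner, map_one, one_mul, neg_eq_zero] at h
  rcases mul_eq_zero.1 h with h | h
  · exact absurd (C.eps_sq i.rev) (by rw [h]; simp)
  · exact absurd (C.eps_sq j.rev) (by rw [h]; simp)

theorem comm_entries {z x : SpecialLinearGroup (Fin n) K} {X : Matrix (Fin n) (Fin n) K} (hx : ⇈x = 1 + X)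
    (h : x * z = z * x) (r s : Fin n) :
    ((⇈z - 1) * X) r s = (X * (⇈z - 1)) r s := by
  have e := congrArg (fun A : SpecialLinearGroup (Fin n) K => ⇈A) h
  simp only [coe_mul', hx, Matrix.add_mul, Matrix.mul_add, Matrix.one_mul, Matrix.mul_one] at e
  rw [Matrix.sub_mul, Matrix.mul_sub, Matrix.one_mul, Matrix.mul_one, add_left_cancel e]

theorem mul_single_apply' (N : Matrix (Fin n) (Fin n) K) (k l : Fin n) (a : K) (r s : Fin n) :
    (N * single k l a) r s = if s = l then N r k * a else 0 := by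
  split_ifs with h
  · subst h; rw [Matrix.mul_single_apply_same]
  · rw [Matrix.mul_single_apply_of_ne (hbj := h)]

theorem single_mul_apply' (N : Matrix (Fin n) (Fin n) K) (k l : Fin n) (a : K) (r s : Fin n) :
    (single k l a * N) r s = if r = k then a * N l s else 0 := by
  split_ifs with h
  · subst h; rw [Matrix.single_mul_apply_same]
  · rw [Matrix.single_mul_apply_of_ne _ _ _ _ _ h]

variable {z : SpecialLinearGroup (Fin n) K}

theorem central_half (hz : z ∈ C.U) (hc : ∀ u ∈ C.U, u * z = z * u) {i : Fin n} (hi : i < i.rev) :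
    (∀ r, (⇈z - 1) r i = 0) ∧ ∀ s, (⇈z - 1) i.rev s = 0 := by
  obtain ⟨⟨zU, zD⟩, -⟩ := mem_U.1 hz
  obtain ⟨c, hc0, hcc⟩ := C.exists_skew
  have e := comm_entries (longSL_coe hi.ne' c) (hc _ (longSL_mem_U (C := C) hi.ne' hi hcc))
  refine ⟨fun r => ?_, fun s => ?_⟩
  · by_cases hr : r = i
    · subst hr; simp [zD]
    · have h := e r i.rev
      rw [mul_single_apply', single_mul_apply', if_pos rfl, if_neg hr] at h
      exact (mul_eq_zero.1 h).resolve_right hc0
  · by_cases hs : s = i.rev
    · subst hs; simp [zD]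
    · have h := e i s
      rw [mul_single_apply', single_mul_apply', if_pos rfl, if_neg hs] at h
      exact (mul_eq_zero.1 h.symm).resolve_left hc0

theorem central_short (hz : z ∈ C.U) (hc : ∀ u ∈ C.U, u * z = z * u) {i j : Fin n} (hij : i < j)
    (hj : j < j.rev) (a : K) (r s : Fin n) :
    (if s = i.rev then (⇈z - 1) r j.rev * C.partner i j a else 0) =
      (if r = i then a * (⇈z - 1) j s else 0) := by
  have h := short_of_half hij hj
  have hi : i < i.rev := hij.trans (hj.trans (Fin.rev_lt_rev.2 hij))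
  have e := comm_entries (shortSL_coe C h a) (hc _ (shortSL_mem_U h hij a)) r s
  rw [Matrix.mul_add, Matrix.add_mul, Matrix.add_apply, Matrix.add_apply, mul_single_apply', mul_single_apply',
    single_mul_apply', single_mul_apply', (central_half hz hc hi).1, (central_half hz hc hi).2] at e
  simpa using e

/-- A central element of U has at most five non-zero entries above the diagonal. -/
theorem central_entries (hn : 4 ≤ n) (hz : z ∈ C.U) (hc : ∀ u ∈ C.U, u * z = z * u) (r s : Fin n)
    (h1 : ¬ (r = i0 hn ∧ s = (i0 hn).rev)) (h2 : ¬ (r = i0 hn ∧ s = (i1 hn).rev))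
    (h3 : ¬ (r = i1 hn ∧ s = (i0 hn).rev)) : (⇈z - 1) r s = 0 := by
  set N := ⇈z - 1 with hN
  have hp : ∀ i j : Fin n, C.partner i j 1 ≠ 0 := fun i j => partner_one_ne_zero i j
  have rowj : ∀ j : Fin n, i1 hn < j → j < j.rev → ∀ s, N j s = 0 := by
    intro j h1j hj s
    have h01 := (i0_lt_i1 hn).trans h1j
    by_cases hs : s = (i0 hn).rev
    · have e := central_short hz hc h1j hj 1 (i1 hn) s
      rw [if_pos rfl, if_neg (by rw [hs]; exact fun e => (i0_lt_i1 hn).ne (Fin.rev_injective e)), one_mul] at e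
      exact e.symm
    · have e := central_short hz hc h01 hj 1 (i0 hn) s
      rw [if_pos rfl, if_neg hs, one_mul] at e
      exact e.symm
  have colj : ∀ j : Fin n, i1 hn < j → j < j.rev → ∀ r, N r j.rev = 0 := by
    intro j h1j hj r
    have h01 := (i0_lt_i1 hn).trans h1j
    by_cases hr : r = i0 hn
    · have e := central_short hz hc h1j hj 1 r (i1 hn).rev
      rw [if_pos rfl, if_neg (hr ▸ (i0_lt_i1 hn).ne)] at e
      exact (mul_eq_zero.1 e).resolve_right (hp _ _)
    · have e := central_short hz hc h01 hj 1 r (i0 hn).rev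
      rw [if_pos rfl, if_neg hr] at e
      exact (mul_eq_zero.1 e).resolve_right (hp _ _)
  have row1 : ∀ s, s ≠ (i0 hn).rev → N (i1 hn) s = 0 := by
    intro s hs
    have e := central_short hz hc (i0_lt_i1 hn) (i1_lt_rev hn) 1 (i0 hn) s
    rw [if_pos rfl, if_neg hs, one_mul] at e
    exact e.symm
  have col1 : ∀ r, r ≠ i0 hn → N r (i1 hn).rev = 0 := by
    intro r hr
    have e := central_short hz hc (i0_lt_i1 hn) (i1_lt_rev hn) 1 r (i0 hn).rev
    rw [if_pos rfl, if_neg hr] at e
    exact (mul_eq_zero.1 e).resolve_right (hp _ _)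
  have hmid : ∀ m : Fin n, m.rev = m → N (i0 hn) m = 0 ∧ N m (i0 hn).rev = 0 := by
    intro m hm
    obtain ⟨⟨zU, zD⟩, -⟩ := mem_U.1 hz
    have h1m : i1 hn < m := by
      have e := congrArg Fin.val hm
      rw [Fin.val_rev] at e
      exact Fin.lt_def.2 (by simp only [i1]; omega)
    have hi1 := (i1_lt_rev hn).ne'
    obtain ⟨c, hcc⟩ := C.mid_trace m hm (-1) (by rw [map_neg, map_one])
    have hpar : c + C.σ c + (1 : K) * C.σ 1 = 0 := by rw [map_one]; linear_combination hcc
    have hcomm := comm_entries (midSL_coe C hi1 hm 1 c) (hc _ (midSL_mem_U hi1 hm h1m hpar))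
    have n01 : (i1 hn).rev ≠ (i0 hn).rev := fun e => (i0_lt_i1 hn).ne (Fin.rev_injective e).symm
    obtain ⟨a1, a2⟩ := mid_ne hi1 hm
    have hm0 : m ≠ i0 hn := ((i0_lt_i1 hn).trans h1m).ne'
    refine ⟨?_, ?_⟩
    · have e := hcomm (i0 hn) (i1 hn).rev
      simp only [Matrix.mul_add, Matrix.add_mul, Matrix.add_apply, mul_single_apply', single_mul_apply', if_true,
        a2.symm, (i0_lt_i1 hn).ne, hm0.symm, if_false, zero_add, add_zero,
        (central_half hz hc (i1_lt_rev hn)).1, zero_mul, map_one, mul_neg, mul_one, neg_eq_zero] at e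
      exact e
    · have e := hcomm (i1 hn) (i0 hn).rev
      simp only [Matrix.mul_add, Matrix.add_mul, Matrix.add_apply, mul_single_apply', single_mul_apply', if_true,
        n01.symm, a1.symm, if_false, zero_add, add_zero, (central_half hz hc (i1_lt_rev hn)).2, mul_zero,
        one_mul] at e
      have hm0' : (i0 hn).rev ≠ m := fun e => hm0 (Fin.rev_injective (by rw [hm, ← e]))
      rw [hN]; simpa [hm0'] using e.symm
  rcases lt_trichotomy s.rev s with hs | hs | hs
  swap
  · by_cases hr : r = i0 hn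
    · rw [hr]; exact (hmid s hs).1
    · by_cases hrr : r < r.rev
      · rcases eq_or_lt_of_le (show i1 hn ≤ r from Fin.le_def.2 (by
          rcases Nat.eq_zero_or_pos (r : ℕ) with h | h
          · exact absurd (Fin.ext h) hr
          · exact h)) with h | h
        · subst h
          exact row1 s fun e => (i0_lt_rev hn).ne' (e.symm.trans (hs.symm.trans (by rw [e, Fin.rev_rev])))
        · exact rowj r h hrr s
      · rcases eq_or_lt_of_le (not_lt.1 hrr) with h | h
        · have e1 := congrArg Fin.val h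
          have e2 := congrArg Fin.val hs
          rw [Fin.val_rev] at e1 e2
          have : r = s := Fin.ext (by omega)
          subst this
          obtain ⟨⟨-, zD⟩, -⟩ := mem_U.1 hz
          simp [hN, zD]
        · have := (central_half hz hc (i := r.rev) (by rwa [Fin.rev_rev])).2 s
          rwa [Fin.rev_rev] at this
  swap
  · exact (central_half hz hc hs).1 r
  by_cases hrr : r < r.rev
  · rcases eq_or_lt_of_le (i0_le hn r) with h0 | h0
    · subst h0
      rcases eq_or_lt_of_le (show i1 hn ≤ s.rev from Fin.le_def.2 (by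
          rcases Nat.eq_zero_or_pos (s.rev : ℕ) with h | h
          · exact absurd ⟨rfl, Fin.rev_injective (by rw [Fin.rev_rev]; exact Fin.ext h)⟩ h1
          · exact h)) with h | h
      · exact absurd ⟨rfl, by rw [h, Fin.rev_rev]⟩ h2
      · have := colj s.rev h (by rwa [Fin.rev_rev]) (i0 hn)
        rwa [Fin.rev_rev] at this
    · rcases eq_or_lt_of_le (show i1 hn ≤ r from Fin.le_def.2 (Fin.lt_def.1 h0)) with h | h
      · subst h; exact row1 s fun e => h3 ⟨rfl, e⟩
      · exact rowj r h hrr s
  · rcases eq_or_lt_of_le (not_lt.1 hrr) with h | h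
    · by_cases hs0 : s = (i0 hn).rev
      · rw [hs0]; exact (hmid r h).2
      · by_cases hs1 : s = (i1 hn).rev
        · rw [hs1]; exact col1 r fun e => (i0_lt_rev hn).ne' (by rw [← e]; exact h)
        · have hs' : i1 hn < s.rev := by
            refine Fin.lt_def.2 ?_
            have a : s.rev ≠ i0 hn := fun e => hs0 (by rw [← e, Fin.rev_rev])
            have b : s.rev ≠ i1 hn := fun e => hs1 (by rw [← e, Fin.rev_rev])
            have a' : (s.rev : ℕ) ≠ 0 := fun e => a (Fin.ext e)
            have b' : (s.rev : ℕ) ≠ 1 := fun e => b (Fin.ext e)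
            simp only [i1]; omega
          have := colj s.rev hs' (by rwa [Fin.rev_rev]) r
          rwa [Fin.rev_rev] at this
    · have := (central_half hz hc (i := r.rev) (by rwa [Fin.rev_rev])).2 s
      rwa [Fin.rev_rev] at this

/-- A central element of U is a long root element, except for symplectic groups in characteristic two. -/
theorem central_form (hn : 4 ≤ n) (hz : z ∈ C.U) (hc : ∀ u ∈ C.U, u * z = z * u) :
    ∃ a c : K, c + C.κ * C.σ c = 0 ∧ z = shortSL C (short01 hn).rev_right a * longSL (i0_lt_rev hn).ne' c ∧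
      (a ≠ 0 → (∀ x, C.σ x = x) ∧ (2 : K) = 0) := by
  obtain ⟨⟨zU, zD⟩, zG⟩ := mem_U.1 hz
  have h01 := (i0_lt_i1 hn).ne
  have e := central_entries hn hz hc
  set N := ⇈z - 1 with hN
  have hshape : ⇈z = 1 + (single (i0 hn) (i1 hn).rev (N (i0 hn) (i1 hn).rev) +
      single (i1 hn) (i0 hn).rev (N (i1 hn) (i0 hn).rev) + single (i0 hn) (i0 hn).rev (N (i0 hn) (i0 hn).rev)) := by
    have hz' : ⇈z = 1 + N := by rw [hN]; abel
    conv_lhs => rw [hz']
    congr 1
    ext r s
    have n01 : (i1 hn).rev ≠ (i0 hn).rev := fun x => h01 (Fin.rev_injective x).symm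
    simp only [Matrix.add_apply, Matrix.single_apply]
    by_cases h1 : r = i0 hn ∧ s = (i0 hn).rev
    · obtain ⟨rfl, rfl⟩ := h1; simp [h01.symm, n01]
    by_cases h2 : r = i0 hn ∧ s = (i1 hn).rev
    · obtain ⟨rfl, rfl⟩ := h2; simp [h01.symm, n01.symm]
    by_cases h3 : r = i1 hn ∧ s = (i0 hn).rev
    · obtain ⟨rfl, rfl⟩ := h3; simp [h01, n01]
    rw [e r s h1 h2 h3, if_neg (fun x => h2 ⟨x.1.symm, x.2.symm⟩), if_neg (fun x => h3 ⟨x.1.symm, x.2.symm⟩),
      if_neg (fun x => h1 ⟨x.1.symm, x.2.symm⟩)]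
    simp
  have hd : Deep (n - 2) z := by
    intro r l hrl hl
    have := e r l (fun x => by have := congrArg Fin.val x.2; have := congrArg Fin.val x.1; simp only [i0, Fin.val_rev] at *; omega)
      (fun x => by have := congrArg Fin.val x.2; have := congrArg Fin.val x.1; simp only [i0, i1, Fin.val_rev] at *; omega)
      (fun x => by have := congrArg Fin.val x.2; have := congrArg Fin.val x.1; simp only [i0, i1, Fin.val_rev] at *; omega)
    simpa [hN, Matrix.one_apply_ne hrl.ne] using this
  set a := N (i0 hn) (i1 hn).rev with ha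
  set b := N (i1 hn) (i0 hn).rev with hb
  set c := N (i0 hn) (i0 hn).rev with hc'
  have hcpar : c + C.κ * C.σ c = 0 := by
    have hsum := sum_eq C zG (i0 hn).rev (i0 hn).rev
    rw [if_neg (fun x => (i0_lt_rev hn).ne' (x.trans (Fin.rev_rev _)))] at hsum
    rw [Finset.sum_eq_add (i0 hn) (i0 hn).rev (i0_lt_rev hn).ne] at hsum
    · simp only [Fin.rev_rev, zD, map_one, mul_one] at hsum
      refine long_param (C := C) (r := i0 hn) ?_
      rw [hc', hN, Matrix.sub_apply, Matrix.one_apply_ne (i0_lt_rev hn).ne, sub_zero]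
      linear_combination hsum
    · intro s _ hs
      by_cases hs1 : s = i1 hn
      · subst hs1
        have h0 := e (i1 hn).rev (i0 hn).rev (fun x => hs.1 (by
            have := congrArg Fin.val x.1; simp only [i0, i1, Fin.val_rev] at this; omega))
          (fun x => by have := congrArg Fin.val x.1; simp only [i0, i1, Fin.val_rev] at this; omega)
          (fun x => (i1_lt_rev hn).ne' x.1)
        rw [hN, Matrix.sub_apply, Matrix.one_apply_ne (fun x => h01 (Fin.rev_injective x).symm), sub_zero] at h0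
        rw [h0, map_zero, mul_zero]
      · have h0 := e s (i0 hn).rev (fun x => hs.1 x.1) (fun x => hs.1 x.1) (fun x => hs1 x.1)
        rw [hN, Matrix.sub_apply, Matrix.one_apply_ne hs.2, sub_zero] at h0
        rw [h0, mul_zero, zero_mul]
    · simp
    · simp
  refine ⟨a, c, hcpar, ?_, fun ha0 => ?_⟩
  · rw [← mul_inv_eq_iff_eq_mul]
    refine eq_short _ (b := b) (C.G.mul_mem zG (C.G.inv_mem (longSL_mem C _ hcpar))) ?_
    rw [longSL_inv, coe_mul', longSL_coe, hshape, Fin.rev_rev]
    simp only [Matrix.add_mul, Matrix.one_mul, Matrix.mul_add, Matrix.mul_one, single_mul_ite, (i0_lt_rev hn).ne',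
      (short01 hn).ne_rev_left.symm, (short01 hn).neRev.symm, if_false, add_zero, ← Matrix.single_neg, Matrix.mul_neg, neg_zero]
    abel
  · have key : ∀ x : K, a * C.partner (i0 hn) (i1 hn) x = x * b := by
      intro x
      have := central_short hz hc (i0_lt_i1 hn) (i1_lt_rev hn) x (i0 hn) (i0 hn).rev
      rwa [if_pos rfl, if_pos rfl] at this
    have k1 := key 1
    rw [Ctx.partner, map_one, one_mul, one_mul] at k1
    have hσ : ∀ x, C.σ x = x := by
      intro x
      have kx := key x
      rw [Ctx.partner, ← k1] at kx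
      have : (a * (C.ε (i0 hn).rev * C.ε (i1 hn).rev)) * (x - C.σ x) = 0 := by linear_combination kx
      rcases mul_eq_zero.1 this with h | h
      · rcases mul_eq_zero.1 h with h | h
        · exact absurd h ha0
        · exact absurd (partner_one_ne_zero (C := C) (i0 hn) (i1 hn)) (by simp [Ctx.partner, h])
      · exact (sub_eq_zero.1 h).symm
    refine ⟨hσ, ?_⟩
    have hm := mirror hz hd (r := i0 hn) (l := (i1 hn).rev)
      (Fin.lt_def.2 (by simp only [i0, i1, Fin.val_rev]; omega)) (by simp only [i0, i1, Fin.val_rev]; omega)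
    rw [hσ, Fin.rev_rev] at hm
    have ea : ⇈z (i0 hn) (i1 hn).rev = a := by
      rw [ha, hN, Matrix.sub_apply, Matrix.one_apply_ne (short01 hn).neRev, sub_zero]
    have eb : ⇈z (i1 hn) (i0 hn).rev = b := by
      rw [hb, hN, Matrix.sub_apply, Matrix.one_apply_ne (short01 hn).ne_rev_left, sub_zero]
    rw [ea, eb, ← k1, C.eps_rev, C.eps_rev] at hm
    have h2 : a * C.ε (i0 hn) * (1 - C.κ) = 0 := by
      linear_combination hm + (a * C.ε (i0 hn) * C.κ * (C.κ * C.κ)) * C.eps_sq (i1 hn) +
        (a * C.ε (i0 hn) * C.κ) * C.kap_sq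
    rcases mul_eq_zero.1 h2 with h | h
    · rcases mul_eq_zero.1 h with h | h
      · exact absurd h ha0
      · exact absurd (C.eps_sq (i0 hn)) (by rw [h]; simp)
    · obtain ⟨t, ht0, ht⟩ := C.exists_skew
      rw [hσ, ← sub_eq_zero.1 h, one_mul] at ht
      exact (mul_eq_zero.1 (by linear_combination ht : (2 : K) * t = 0)).resolve_right ht0

/-- An element of U commuting with U and with a lower long root element is trivial. -/
theorem central_eq_one (hn : 4 ≤ n) (hz : z ∈ C.U) (hc : ∀ u ∈ C.U, u * z = z * u)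
    (hlow : ∀ g ∈ C.G, g * z = z * g) : z = 1 := by
  obtain ⟨a, c, hcp, e, -⟩ := central_form hn hz hc
  obtain ⟨t, ht0, ht⟩ := C.exists_skew
  have hh := (i0_lt_rev hn).ne'
  have hy : ⇈(SpecialLinearGroup.transvection hh (-t⁻¹) : SpecialLinearGroup (Fin n) K) =
      1 + single (i0 hn).rev (i0 hn) (-t⁻¹) := rfl
  have h := fun r => comm_entries hy (hlow _ (long_rev_mem hh ht0 ht)) r (i0 hn)
  have hne : ∀ r, r ≠ (i0 hn).rev → (⇈z - 1) r (i0 hn).rev = 0 := fun r hr => by
    have e' := h r
    rw [mul_single_apply', single_mul_apply', if_pos rfl, if_neg hr] at e'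
    exact (mul_eq_zero.1 e').resolve_right (by simp [ht0])
  have zmat : ⇈z - 1 = single (i0 hn) (i1 hn).rev a + single (i1 hn) (i0 hn).rev (C.partner (i0 hn) (i1 hn).rev a) +
      single (i0 hn) (i0 hn).rev c := by
    rw [e, coe_mul', shortSL_coe, longSL_coe, Fin.rev_rev]
    simp only [Matrix.add_mul, Matrix.one_mul, Matrix.mul_add, Matrix.mul_one, single_mul_ite,
      (short01 hn).ne_rev_left.symm, (short01 hn).neRev.symm, hh, if_false, add_zero]
    abel
  have hc0 : c = 0 := by
    have := hne (i0 hn) hh.symm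
    rw [zmat] at this
    simpa [(short01 hn).rev_ne, (short01 hn).ne.symm] using this
  have hb0 : C.partner (i0 hn) (i1 hn).rev a = 0 := by
    have := hne (i1 hn) (short01 hn).ne_rev_left
    rw [zmat] at this
    simpa [(short01 hn).ne, (short01 hn).ne.symm] using this
  have ha0 : a = 0 := by
    rw [Ctx.partner, Fin.rev_rev, neg_eq_zero] at hb0
    rcases mul_eq_zero.1 hb0 with h | h
    · rcases mul_eq_zero.1 h with h | h
      · rw [← C.invol a, h, map_zero]
      · exact absurd (C.eps_sq (i0 hn).rev) (by rw [h]; simp)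
    · exact absurd (C.eps_sq (i1 hn)) (by rw [h]; simp)
  rw [e, ha0, hc0, shortSL_zero, longSL_zero, one_mul]

end Cfsg.Agent.FormTri
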