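import Cfsg.Agent.FormTri.Centre
import Mathlib.FieldTheory.Finite.Basic

/-!
A non-trivial subgroup of U which is closed in the form group and contains a central element of U is U.
-/

set_option autoImplicit false

namespace Cfsg.Agent.FormTri

open Matrix

variable {n : ℕ} {K : Type*} [Field K] {C : Ctx n K}

/-- The underlying matrix. -/
local notation:max "⇈" A:max => ((A : SpecialLinearGroup (Fin n) K) : Matrix (Fin n) (Fin n) K)

theorem commute_long_short {i k l : Fin n} (hi : i.rev ≠ i) (h : Short k l) (hk : k ≠ i.rev) (hl : l ≠ i)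
    (h1 : l.rev ≠ i.rev) (h2 : k.rev ≠ i) (a c : K) :
    longSL hi c * shortSL C h a = shortSL C h a * longSL hi c := by
  refine UniTri.sl_ext fun r s => ?_
  simp only [coe_mul', longSL_coe, shortSL_coe, Matrix.add_mul, Matrix.one_mul, Matrix.mul_add, Matrix.mul_one,
    single_mul_ite, hk.symm, hl, h1.symm, h2, if_false, add_zero]
  simp only [Matrix.add_apply]
  ring

theorem commute_long_long {i j : Fin n} (hi : i.rev ≠ i) (hj : j.rev ≠ j) (h1 : i.rev ≠ j) (h2 : j.rev ≠ i)
    (c d : K) : longSL hi c * longSL hj d = longSL hj d * longSL hi c := by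
  refine UniTri.sl_ext fun r s => ?_
  simp only [coe_mul', longSL_coe, Matrix.add_mul, Matrix.one_mul, Matrix.mul_add, Matrix.mul_one,
    single_mul_ite, h1, h2, if_false, add_zero]
  simp only [Matrix.add_apply]
  ring

theorem swap_rev {i : Fin n} (x : Fin n) : Equiv.swap i i.rev x.rev = (Equiv.swap i i.rev x).rev := by
  rcases eq_or_ne x i with rfl | hx
  · simp
  rcases eq_or_ne x i.rev with rfl | hx'
  · simp
  rw [Equiv.swap_apply_of_ne_of_ne hx hx', Equiv.swap_apply_of_ne_of_ne]
  · exact fun e => hx' (by rw [← e, Fin.rev_rev])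
  · exact fun e => hx (Fin.rev_injective e)

theorem swap_pair_rev {i j : Fin n} (h : Short i j) (x : Fin n) :
    (Equiv.swap i j * Equiv.swap i.rev j.rev) x.rev = ((Equiv.swap i j * Equiv.swap i.rev j.rev) x).rev := by
  have := h.ne; have := h.neRev; have := h.ne_rev_left; have := h.rev_ne; have := h.moved; have := h.moved'
  simp only [Equiv.Perm.mul_apply]
  rcases eq_or_ne x i with rfl | hxi
  · simp [Equiv.swap_apply_of_ne_of_ne, *, Ne.symm]
  rcases eq_or_ne x j with rfl | hxj
  · simp [Equiv.swap_apply_of_ne_of_ne, *, Ne.symm]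
  rcases eq_or_ne x i.rev with rfl | hxi'
  · simp [Equiv.swap_apply_of_ne_of_ne, *, Ne.symm]
  rcases eq_or_ne x j.rev with rfl | hxj'
  · simp [Equiv.swap_apply_of_ne_of_ne, *, Ne.symm]
  have a1 : x.rev ≠ i.rev := fun e => hxi (Fin.rev_injective e)
  have a2 : x.rev ≠ j.rev := fun e => hxj (Fin.rev_injective e)
  have a3 : x.rev ≠ i := fun e => hxi' (by rw [← e, Fin.rev_rev])
  have a4 : x.rev ≠ j := fun e => hxj' (by rw [← e, Fin.rev_rev])
  simp [Equiv.swap_apply_of_ne_of_ne, *]

/-- The hypothesis: `T` is inside U and closed under conjugation within the form group. -/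
structure Closed (C : Ctx n K) (T : Subgroup (SpecialLinearGroup (Fin n) K)) : Prop where
  le : T ≤ C.U
  conj : ∀ x ∈ T, ∀ g ∈ C.G, g * x * g⁻¹ ∈ C.U → g * x * g⁻¹ ∈ T

variable {T : Subgroup (SpecialLinearGroup (Fin n) K)} (hT : Closed C T)
include hT

theorem Closed.comm {x u : SpecialLinearGroup (Fin n) K} (hx : x ∈ T) (hu : u ∈ C.U) :
    x * u * x⁻¹ * u⁻¹ ∈ T := by
  have h1 := hT.conj _ (T.inv_mem hx) u (U_le_G hu)
    (C.U.mul_mem (C.U.mul_mem hu (C.U.inv_mem (hT.le hx))) (C.U.inv_mem hu))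
  have := T.mul_mem hx h1
  simpa only [mul_assoc] using this

theorem Closed.comm' {x u : SpecialLinearGroup (Fin n) K} (hx : x ∈ T) (hu : u ∈ C.U) :
    u * x * u⁻¹ * x⁻¹ ∈ T :=
  T.mul_mem (hT.conj _ hx u (U_le_G hu) (C.U.mul_mem (C.U.mul_mem hu (hT.le hx)) (C.U.inv_mem hu)))
    (T.inv_mem hx)

/-- Symplectic case in characteristic two: the mixed element gives a long root element. -/
theorem Closed.long_of_mixed (hn : 4 ≤ n) (hbig : 6 ≤ n ∨ ∃ t : K, t ≠ 0 ∧ t ≠ 1) (hσ : ∀ x, C.σ x = x)
    (h2 : (2 : K) = 0) {a c : K} (ha : a ≠ 0)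
    (hz : shortSL C (short01 hn).rev_right a * longSL (i0_lt_rev hn).ne' c ∈ T) :
    ∃ c : K, c ≠ 0 ∧ longSL (i0_lt_rev hn).ne' c ∈ T := by
  have hκ : C.κ = 1 := by
    have h := C.kap_sq
    have : (C.κ - 1) * (C.κ - 1) = 0 := by linear_combination h + (1 - C.κ) * h2
    exact sub_eq_zero.1 (mul_self_eq_zero.1 this)
  have hpar : ∀ e : K, e + C.κ * C.σ e = 0 := fun e => by rw [hσ, hκ]; linear_combination e * h2
  have hL := (i0_lt_rev hn).ne'
  have h1 := (i1_lt_rev hn).ne'
  have s01 := short01 hn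
  have hwG : wLong h1 (1 : K) ∈ C.G := wLong_mem h1 one_ne_zero (hpar 1)
  have hwm := wLong_mono (K := K) h1 (c := 1) one_ne_zero
  have h0i := (i0_lt_i1 hn).ne
  -- moving the mixed element to a non-central position
  have flip : ∀ a c : K, shortSL C s01.rev_right a * longSL hL c ∈ T → shortSL C s01 a * longSL hL c ∈ T := by
    intro a c h
    have := hT.conj _ h (wLong h1 1) hwG
    have e1 : Equiv.swap (i1 hn) (i1 hn).rev (i0 hn) = i0 hn :=
      Equiv.swap_apply_of_ne_of_ne h0i s01.neRev
    have e2 : Equiv.swap (i1 hn) (i1 hn).rev (i1 hn).rev = i1 hn := Equiv.swap_apply_right ..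
    have hconj : wLong h1 1 * (shortSL C s01.rev_right a * longSL hL c) * (wLong h1 1)⁻¹ =
        shortSL C s01 a * longSL hL c := by
      rw [show wLong h1 (1 : K) * (shortSL C s01.rev_right a * longSL hL c) * (wLong h1 1)⁻¹ =
        (wLong h1 1 * shortSL C s01.rev_right a * (wLong h1 1)⁻¹) * (wLong h1 1 * longSL hL c * (wLong h1 1)⁻¹)
        by group]
      rw [hwm.conj_short hwG swap_rev s01.rev_right (by rw [e1, e2]; exact s01) a,
        hwm.conj_long swap_rev hL (by rw [e1]; exact hL) c]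
      have d0 : wLongD (i1 hn) (1 : K) (i0 hn) = 1 := by simp [wLongD, h0i, s01.neRev]
      have d1 : wLongD (i1 hn) (1 : K) (i1 hn).rev = 1 := by simp [wLongD]
      have d2 : wLongD (i1 hn) (1 : K) (i0 hn).rev = 1 := by
        simp [wLongD, s01.ne_rev_left.symm, s01.rev_ne.symm]
      simp only [d0, d1, d2, one_mul, div_one]
      congr 1
      · congr 1
      · congr 1
    rw [hconj] at this
    exact this (C.U.mul_mem (shortSL_mem_U s01 (i0_lt_i1 hn) a) (longSL_mem_U hL (i0_lt_rev hn) (hpar c)))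
  have push : ∀ a c e : K, shortSL C s01 a * longSL hL c ∈ T →
      shortSL C s01.rev_right (a * e) * longSL hL (-(a * C.partner (i0 hn) (i1 hn) a * e)) ∈ T := by
    intro a c e h
    have hm := hT.comm h (longSL_mem_U h1 (i1_lt_rev hn) (hpar e))
    rw [show shortSL C s01 a * longSL hL c * longSL h1 e * (shortSL C s01 a * longSL hL c)⁻¹ * (longSL h1 e)⁻¹ =
        shortSL C s01 a * (longSL hL c * longSL h1 e * (longSL hL c)⁻¹) * (shortSL C s01 a)⁻¹ * (longSL h1 e)⁻¹
        by group, commute_long_long hL h1 s01.ne_rev_left.symm s01.neRev.symm, mul_inv_cancel_right,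
      comm_short_long s01 a (hpar e)] at hm
    exact hm
  have hy := flip a c hz
  set P : K → K → K := fun a e => -(a * C.partner (i0 hn) (i1 hn) a * e) with hP
  by_cases hex : ∃ t : K, t ≠ 0 ∧ t ≠ 1
  · obtain ⟨t, ht0, ht1⟩ := hex
    have all : ∀ a' f : K, shortSL C s01.rev_right (a' * f) * longSL hL (P a' f) ∈ T := by
      intro a' f
      have h := flip _ _ (push a c (a' / a) hy)
      rw [mul_div_cancel₀ _ ha] at h
      exact push a' _ f h
    have hd := T.mul_mem (T.inv_mem (all 1 t)) (all t 1)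
    rw [one_mul, mul_one, _root_.mul_inv_rev, mul_assoc, ← mul_assoc (shortSL C s01.rev_right t)⁻¹,
      inv_mul_cancel, one_mul, longSL_inv, longSL_add] at hd
    refine ⟨_, ?_, hd⟩
    set e0 := C.ε (i0 hn).rev * C.ε (i1 hn).rev
    have he0 : e0 ≠ 0 := fun h => partner_one_ne_zero (C := C) (i0 hn) (i1 hn) (by
      simp only [Ctx.partner, map_one, one_mul]; exact neg_eq_zero.2 h)
    have hv : -P 1 t + P t 1 = e0 * (t * (t - 1)) := by
      simp only [hP, Ctx.partner, hσ]; ring
    rw [hv]
    exact mul_ne_zero he0 (mul_ne_zero ht0 (sub_ne_zero.2 ht1))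
  · have h6 : 6 ≤ n := hbig.resolve_right hex
    let j : Fin n := ⟨2, by omega⟩
    have h1j : i1 hn < j := Fin.lt_def.2 (show 1 < 2 by omega)
    have h0j := (i0_lt_i1 hn).trans h1j
    have hj : j < j.rev := Fin.lt_def.2 (by simp only [j, Fin.val_rev]; omega)
    have s12 := (short_of_half h1j hj).rev_right
    have s02 := short_of_half h0j hj
    have hlt : i1 hn < j.rev := h1j.trans hj
    have hm := hT.comm hy (shortSL_mem_U (C := C) s12 hlt 1)
    rw [show shortSL C s01 a * longSL hL c * shortSL C s12 1 * (shortSL C s01 a * longSL hL c)⁻¹ *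
        (shortSL C s12 1)⁻¹ =
        shortSL C s01 a * (longSL hL c * shortSL C s12 1 * (longSL hL c)⁻¹) * (shortSL C s01 a)⁻¹ *
        (shortSL C s12 1)⁻¹ by group,
      commute_long_short hL s12 s01.ne_rev_left s02.neRev.symm 
        (by rw [Fin.rev_rev]; exact s02.ne_rev_left) (fun e => s01.ne_rev_left (by rw [← e, Fin.rev_rev])),
      mul_inv_cancel_right, comm_short_short s01 s12 s02.rev_right, mul_one] at hm
    have hgG : wLong hj.ne' (1 : K) ∈ C.G := wLong_mem hj.ne' one_ne_zero (hpar 1)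
    have e1 : Equiv.swap j j.rev (i0 hn) = i0 hn := Equiv.swap_apply_of_ne_of_ne s02.ne s02.neRev
    have e2 : Equiv.swap j j.rev j.rev = j := Equiv.swap_apply_right ..
    have hm2 := hT.conj _ hm (wLong hj.ne' 1) hgG
    have hcj : wLong hj.ne' 1 * shortSL C s02.rev_right a * (wLong hj.ne' 1)⁻¹ = shortSL C s02 a := by
      rw [(wLong_mono (K := K) hj.ne' (c := 1) one_ne_zero).conj_short hgG swap_rev s02.rev_right
        (by rw [e1, e2]; exact s02) a]
      simp only [wLongD, s02.ne, s02.neRev, if_false, if_true, one_mul, div_one]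
      congr 1
    rw [hcj] at hm2
    have hs02 := hm2 (shortSL_mem_U s02 h0j a)
    have hm3 := hT.comm hs02 (longSL_mem_U hj.ne' hj (hpar 1))
    rw [comm_short_long s02 a (hpar 1), mul_one, mul_one, T.mul_mem_cancel_left hm] at hm3
    refine ⟨_, ?_, hm3⟩
    rw [Ctx.partner, hσ, neg_ne_zero, mul_neg, neg_ne_zero]
    refine mul_ne_zero ha (mul_ne_zero (mul_ne_zero ha ?_) ?_) <;>
    · intro h
      have := C.eps_sq
      first
        | (have := this (i0 hn).rev; rw [h] at this; simp at this)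
        | (have := this j.rev; rw [h] at this; simp at this)

/-- T contains all long root elements in the corner. -/
theorem Closed.corner [Finite K] (hn : 4 ≤ n) {c : K} (hc0 : c ≠ 0) (hc : c + C.κ * C.σ c = 0)
    (h : longSL (i0_lt_rev hn).ne' c ∈ T) {c' : K} (hc' : c' + C.κ * C.σ c' = 0) :
    longSL (i0_lt_rev hn).ne' c' ∈ T := by
  have hL := (i0_lt_rev hn).ne'
  have s01 := short01 hn
  have scale : ∀ s : K, longSL hL (c * (s * C.σ s)) ∈ T := by
    intro s
    by_cases hs : s = 0
    · simp [hs, longSL_zero, T.one_mem]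
    set g := wShort C s01 s * (wShort C s01 1)⁻¹
    have hg : g ∈ C.G := C.G.mul_mem (wShort_mem s01 s) (C.G.inv_mem (wShort_mem s01 1))
    have hd := (wShort_mono (C := C) s01 hs).div (wShort_mono (C := C) s01 one_ne_zero)
    set π := Equiv.swap (i0 hn) (i1 hn) * Equiv.swap (i0 hn).rev (i1 hn).rev
    set d : Fin n → K := fun r => wShortD C (i0 hn) (i1 hn) s (π.symm r) / wShortD C (i0 hn) (i1 hn) 1 (π.symm r)
    have hm : IsMono g 1 d := fun r l => by
      rw [hd, Matrix.diagonal_apply]
      by_cases e : r = l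
      · subst e; simp [d]
      · simp [e]
    have e0 : π.symm (i0 hn) = i1 hn := by
      rw [Equiv.symm_apply_eq]
      simp [π, Equiv.swap_apply_of_ne_of_ne, s01.ne_rev_left, s01.moved'.symm]
    have e0' : π.symm (i0 hn).rev = (i1 hn).rev := by
      rw [Equiv.symm_apply_eq]
      simp [π, Equiv.swap_apply_of_ne_of_ne, s01.moved, s01.ne_rev_left.symm]
    have d0 : d (i0 hn) = s := by simp [d, e0, wShortD]
    have d1 : d (i0 hn).rev = (C.σ s)⁻¹ := by
      simp only [d, e0', wShortD, s01.moved', s01.neRev.symm, s01.rev_ne, if_false, if_true]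
      have hs' : C.σ s ≠ 0 := fun e => hs (by rw [← C.invol s, e, map_zero])
      simp only [Ctx.partner, map_neg, map_inv₀, map_one, inv_one]
      have := partner_one_ne_zero (C := C) (i1 hn) (i0 hn)
      rw [Ctx.partner, map_one, one_mul, neg_ne_zero] at this
      field_simp
      exact div_self this
    have := hT.conj _ h g hg
    rw [hm.conj_long (fun _ => rfl) hL hL c] at this
    rw [show c * (s * C.σ s) = d (i0 hn) * c / d (i0 hn).rev by rw [d0, d1]; field_simp]
    refine this (longSL_mem_U hL (i0_lt_rev hn) ?_)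
    rw [d0, d1, div_inv_eq_mul, map_mul, map_mul, C.invol]
    linear_combination (s * C.σ s) * hc
  have hx : C.σ (c' / c) = c' / c := by
    have hk : C.κ ≠ 0 := fun e => one_ne_zero (by rw [← C.kap_sq, e, zero_mul])
    have hs : C.σ c = -(C.κ * c) := by linear_combination C.κ * hc + (-(C.σ c)) * C.kap_sq
    have hs' : C.σ c' = -(C.κ * c') := by linear_combination C.κ * hc' + (-(C.σ c')) * C.kap_sq
    rw [map_div₀, hs, hs', neg_div_neg_eq, mul_div_mul_left _ _ hk]
  set x := c' / c with hxdef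
  rw [show c' = c * x by rw [hxdef, mul_div_cancel₀ _ hc0]]
  by_cases h2 : (2 : K) = 0
  · haveI : CharP K 2 := CharTwo.of_one_ne_zero_of_two_eq_zero one_ne_zero h2
    obtain ⟨y, hy⟩ := FiniteField.isSquare_of_char_two (ringChar.eq K 2) x
    have hy' : C.σ y = y := by
      have : (C.σ y - y) * (C.σ y - y) = 0 := by
        have e : C.σ y * C.σ y = y * y := by rw [← map_mul, ← hy, hx]
        linear_combination e + (y * y - C.σ y * y) * h2
      exact sub_eq_zero.1 (mul_self_eq_zero.1 this)
    have := scale y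
    rwa [hy', ← hy] at this
  · have := T.mul_mem (scale ((x + 1) / 2)) (T.inv_mem (scale ((x - 1) / 2)))
    rw [longSL_inv, longSL_add, map_div₀, map_div₀, map_add, map_sub, hx, map_one, map_ofNat] at this
    convert this using 2
    field_simp
    ring

/-- T contains all long root elements. -/
theorem Closed.long [Finite K] (hn : 4 ≤ n)
    (hcor : ∀ c : K, c + C.κ * C.σ c = 0 → longSL (i0_lt_rev hn).ne' c ∈ T)
    {i : Fin n} (hi : i < i.rev) {c : K} (hc : c + C.κ * C.σ c = 0) : longSL hi.ne' c ∈ T := by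
  rcases eq_or_lt_of_le (i0_le hn i) with h | h
  · subst h; exact hcor c hc
  have s := short_of_half h hi
  have hw := wShort_mono (C := C) s (s := 1) one_ne_zero
  have hp : (Equiv.swap (i0 hn) i * Equiv.swap (i0 hn).rev i.rev) (i0 hn) = i := by
    simp [Equiv.swap_apply_of_ne_of_ne, s.moved.symm, s.neRev]
  have d0 : wShortD C (i0 hn) i 1 (i0 hn) = -1 := by simp [wShortD, s.ne]
  set P := C.partner (i0 hn) i 1 with hP
  have d1 : wShortD C (i0 hn) i 1 (i0 hn).rev = P := by
    simp [wShortD, hP, s.moved, s.ne_rev_left.symm]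
  have hPfix : C.σ P = P := by
    rw [hP, Ctx.partner, map_neg, map_mul, map_mul, C.invol, C.eps_fix, C.eps_fix, map_one]
  have hP0 : P ≠ 0 := partner_one_ne_zero _ _
  have := hT.conj _ (hcor (-(c * P)) (by rw [map_neg, map_mul, hPfix]; linear_combination (-P) * hc))
    (wShort C s 1) (wShort_mem s 1)
  rw [hw.conj_long (swap_pair_rev s) (i0_lt_rev hn).ne' (by rw [hp]; exact hi.ne'), d0, d1] at this
  have e : -1 * -(c * P) / P = c := by field_simp
  simp only [hp, e] at this
  exact this (longSL_mem_U hi.ne' hi hc)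

theorem Closed.shorts (hlong : ∀ (i : Fin n) (hi : i < i.rev) (c : K), c + C.κ * C.σ c = 0 → longSL hi.ne' c ∈ T)
    {i j : Fin n} (h : Short i j) (hij : i < j) (hj : j < i.rev) (a : K) : shortSL C h a ∈ T := by
  obtain ⟨c, hc0, hc⟩ := C.exists_skew
  have hi : i < i.rev := hij.trans hj
  have low : ∀ k : Fin n, i < k → k < k.rev → ∀ (hs : Short i k) (a : K), shortSL C hs.rev_right a ∈ T := by
    intro k hik hk hs a
    have hm := hT.comm' (hlong k hk c hc) (shortSL_mem_U (C := C) hs hik (a / c))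
    rw [comm_short_long hs (a / c) hc, div_mul_cancel₀ _ hc0] at hm
    have hl : longSL hs.moved (-(a / c * C.partner i k (a / c) * c)) ∈ T := by
      refine hlong i hi _ ?_
      have hs : C.κ * C.σ c = -c := by linear_combination hc
      rw [Ctx.partner, map_neg, map_mul, map_mul, map_neg, map_mul, map_mul, C.invol, C.eps_fix, C.eps_fix]
      linear_combination (a / c * C.σ (a / c) * C.ε i.rev * C.ε k.rev) * hs
    exact (T.mul_mem_cancel_right hl).1 hm
  rcases lt_trichotomy j j.rev with hjj | hjj | hjj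
  · have := hT.conj _ (low j hij hjj h (a * c)) (wLong hjj.ne' c) (wLong_mem hjj.ne' hc0 hc)
    have e1 : Equiv.swap j j.rev i = i := Equiv.swap_apply_of_ne_of_ne h.ne h.neRev
    have e2 : Equiv.swap j j.rev j.rev = j := Equiv.swap_apply_right ..
    have hcj : wLong hjj.ne' c * shortSL C h.rev_right (a * c) * (wLong hjj.ne' c)⁻¹ = shortSL C h a := by
      rw [(wLong_mono hjj.ne' hc0).conj_short (wLong_mem hjj.ne' hc0 hc) swap_rev h.rev_right
        (by rw [e1, e2]; exact h) (a * c)]
      simp only [wLongD, h.ne, h.neRev, if_false, if_true, one_mul, mul_div_cancel_right₀ _ hc0]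
      congr 1
    rw [hcj] at this
    exact this (shortSL_mem_U h hij a)
  · exact absurd hjj.symm h.moved'
  · have h2 : i < j.rev := by
      have := Fin.rev_lt_rev.2 hj
      rwa [Fin.rev_rev] at this
    have := low j.rev h2 (by rwa [Fin.rev_rev]) h.rev_right a
    convert this using 2
    · exact (Fin.rev_rev j).symm

theorem Closed.mids (hn : 4 ≤ n)
    (hlong : ∀ (i : Fin n) (hi : i < i.rev) (c : K), c + C.κ * C.σ c = 0 → longSL hi.ne' c ∈ T)
    (hshort : ∀ (i j : Fin n) (h : Short i j), i < j → j < i.rev → ∀ a : K, shortSL C h a ∈ T)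
    {i m : Fin n} (hi : i.rev ≠ i) (hm : m.rev = m) (him : i < m) {a c : K}
    (hc : c + C.σ c + a * C.σ a = 0) : midSL C hi hm a c ∈ T := by
  have hκ := C.mid_kap m hm
  have adjust : ∀ (i : Fin n) (hi : i.rev ≠ i), i < m → ∀ a c c', c + C.σ c + a * C.σ a = 0 →
      c' + C.σ c' + a * C.σ a = 0 → midSL C hi hm a c ∈ T → midSL C hi hm a c' ∈ T := by
    intro i hi him a c c' hc hc' h
    have e : midSL C hi hm a c' = longSL hi (c' - c) * midSL C hi hm a c := by
      refine UniTri.sl_ext fun r l => congrFun (congrFun ?_ r) l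
      obtain ⟨n1, n2⟩ := mid_ne hi hm
      simp only [coe_mul', midSL_coe, longSL_coe, sub_eq_add_neg, Matrix.single_add, Matrix.add_mul, Matrix.one_mul,
        Matrix.mul_add, Matrix.mul_one, single_mul_ite, n2.symm, hi, if_false, add_zero, ← Matrix.single_neg,
        Matrix.neg_mul, Matrix.mul_neg, neg_zero]
      abel
    rw [e]
    refine T.mul_mem (hlong i (him.trans (lt_rev_of_lt_mid hm him)) _ ?_) h
    rw [hκ, map_sub]; linear_combination hc' - hc
  have base : ∀ (i j : Fin n), i < j → j < m → ∀ (hi : i.rev ≠ i) (a c : K), c + C.σ c + a * C.σ a = 0 →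
      midSL C hi hm a c ∈ T := by
    intro i j hij hjm hi a c hc
    have hjj : j < j.rev := hjm.trans (lt_rev_of_lt_mid hm hjm)
    have h := short_of_half hij hjj
    obtain ⟨c1, hc1⟩ := C.mid_trace m hm (-1) (by rw [map_neg, map_one])
    have hpar : c1 + C.σ c1 + (1 : K) * C.σ 1 = 0 := by rw [map_one]; linear_combination hc1
    have hj' : j < i.rev := hjj.trans (Fin.rev_lt_rev.2 hij)
    have hmem := hT.comm (hshort i j h hij hj' a) (midSL_mem_U (C := C) h.moved' hm hjm hpar)
    rw [comm_short_mid h hm a hpar, mul_one] at hmem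
    have hj2 : i < j.rev := hij.trans hjj
    have hs := hshort i j.rev h.rev_right hj2 (Fin.rev_lt_rev.2 hij) (-(a * C.σ c1))
    refine adjust i hi (hij.trans hjm) a _ c ?_ hc ((T.mul_mem_cancel_right hs).1 hmem)
    rw [map_mul, map_mul, C.invol]
    linear_combination (a * C.σ a) * hc1
  have h1m : i1 hn < m := by
    have e := congrArg Fin.val hm
    rw [Fin.val_rev] at e
    exact Fin.lt_def.2 (by simp only [i1]; omega)
  rcases eq_or_lt_of_le (i0_le hn i) with h | h
  · subst h; exact base _ _ (i0_lt_i1 hn) h1m hi a c hc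
  have hii : i < i.rev := him.trans (lt_rev_of_lt_mid hm him)
  have s := short_of_half h hii
  have hi0 := (i0_lt_rev hn).ne'
  have hw := wShort_mono (C := C) s (s := 1) one_ne_zero
  have hmem := base _ _ (i0_lt_i1 hn) h1m hi0 (-a) c (by rw [map_neg]; linear_combination hc)
  have := hT.conj _ hmem (wShort C s 1) (wShort_mem s 1)
  set π := Equiv.swap (i0 hn) i * Equiv.swap (i0 hn).rev i.rev
  obtain ⟨m1, m2⟩ := mid_ne hi0 hm
  obtain ⟨m3, m4⟩ := mid_ne hi hm
  have p0 : π (i0 hn) = i := by simp [π, Equiv.swap_apply_of_ne_of_ne, s.moved.symm, s.neRev]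
  have p0' : π (i0 hn).rev = i.rev := by
    rw [swap_pair_rev s, show (Equiv.swap (i0 hn) i * Equiv.swap (i0 hn).rev i.rev) (i0 hn) = i from p0]
  have pm : π m = m := by simp [π, Equiv.swap_apply_of_ne_of_ne, m1, m2, m3, m4]
  have d0 : wShortD C (i0 hn) i 1 (i0 hn) = -1 := by simp [wShortD, s.ne]
  have dm : wShortD C (i0 hn) i 1 m = 1 := by simp [wShortD, m1, m2, m3, m4]
  have d1 : wShortD C (i0 hn) i 1 (i0 hn).rev = -1 := by
    simp [wShortD, s.moved, s.ne_rev_left.symm, Ctx.partner, C.mid_eps m hm]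
  have hconj : wShort C s 1 * midSL C hi0 hm (-a) c * (wShort C s 1)⁻¹ = midSL C hi hm a c := by
    refine UniTri.sl_ext fun r l => congrFun (congrFun ?_ r) l
    simp only [coe_mul', midSL_coe, Matrix.mul_add, Matrix.add_mul, Matrix.mul_one, hw.conj_single]
    simp only [p0, p0', pm, d0, d1, dm, π] at *
    rw [← coe_mul', mul_inv_cancel]
    simp [map_neg, div_neg]; rfl
  rw [hconj] at this
  exact this (midSL_mem_U hi hm him hc)

/-- A closed subgroup containing a non-trivial central element of U is U. -/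
theorem Closed.eq [Finite K] (hn : 4 ≤ n) (hbig : (∀ x, C.σ x = x) → 6 ≤ n ∨ ∃ t : K, t ≠ 0 ∧ t ≠ 1)
    {z : SpecialLinearGroup (Fin n) K} (hzT : z ∈ T) (hz1 : z ≠ 1) (hc : ∀ u ∈ C.U, u * z = z * u) : T = C.U := by
  obtain ⟨a, c, hcp, e, hspecial⟩ := central_form hn (hT.le hzT) hc
  have hcor : ∃ c : K, c ≠ 0 ∧ longSL (i0_lt_rev hn).ne' c ∈ T := by
    by_cases ha : a = 0
    · rw [ha, shortSL_zero, one_mul] at e
      exact ⟨c, fun h => hz1 (by rw [e, h, longSL_zero]), e ▸ hzT⟩
    · obtain ⟨hσ, h2⟩ := hspecial ha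
      exact hT.long_of_mixed hn (hbig hσ) hσ h2 ha (e ▸ hzT)
  obtain ⟨c₀, hc0, hmem⟩ := hcor
  have hpar : c₀ + C.κ * C.σ c₀ = 0 := by
    have h0 := (mem_G_one_add C (longSL_coe (i0_lt_rev hn).ne' c₀)).1 (U_le_G (hT.le hmem))
    simp only [Matrix.transpose_single, map_single', single_mul_J, J_mul_single,
      single_mul_ne (i0_lt_rev hn).ne', add_zero] at h0
    have := congrFun (congrFun h0 (i0 hn).rev) (i0 hn).rev
    simp at this
    exact long_param (r := i0 hn) (by linear_combination this)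
  have hlong : ∀ (i : Fin n) (hi : i < i.rev) (c : K), c + C.κ * C.σ c = 0 → longSL hi.ne' c ∈ T :=
    fun i hi c hc => hT.long hn (fun c hc => hT.corner hn hc0 hpar hmem hc) hi hc
  have hshort : ∀ (i j : Fin n) (h : Short i j), i < j → j < i.rev → ∀ a : K, shortSL C h a ∈ T :=
    fun i j h hij hj a => hT.shorts hlong h hij hj a
  refine le_antisymm hT.le (U_le fun x hx => ?_)
  cases hx with
  | short h hij hj a => exact hshort _ _ h hij hj a
  | long h hi c hc => exact hlong _ hi c hc
  | mid hi hm him a c hc => exact hT.mids hn hlong hshort hi hm him hc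

end Cfsg.Agent.FormTri
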