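import Cfsg.Agent.FormTri.Tri

/-!
The diagonal part of the form group is generated by quotients of monomial elements of rank one subgroups.
-/

set_option autoImplicit false

namespace Cfsg.Agent.FormTri

open Matrix

variable {n : ℕ} {K : Type*} [Field K] {C : Ctx n K}

/-- The underlying matrix. -/
local notation:max "⇈" A:max => ((A : SpecialLinearGroup (Fin n) K) : Matrix (Fin n) (Fin n) K)

theorem sigma_ne_zero {x : K} (h : x ≠ 0) : C.σ x ≠ 0 := fun e => h (by rw [← C.invol x, e, map_zero])

/-- The lower middle root element used in the monomial element of the rank one subgroup. -/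
def midLow (C : Ctx n K) {i m : Fin n} (hi : i.rev ≠ i) (hm : m.rev = m) (a b : K) :
    SpecialLinearGroup (Fin n) K :=
  midSL C (i := i.rev) (by rw [Fin.rev_rev]; exact hi.symm) hm (-(a / b)) (C.σ b)⁻¹

theorem midLow_coe {i m : Fin n} (hi : i.rev ≠ i) (hm : m.rev = m) (a b : K) :
    ⇈(midLow C hi hm a b) =
      1 + (single i.rev m (-(a / b)) + single m i (C.σ a / C.σ b) + single i.rev i (C.σ b)⁻¹) := by
  rw [midLow, midSL_coe, Fin.rev_rev, map_neg, map_div₀, neg_neg]

theorem midLow_mem {i m : Fin n} (hi : i.rev ≠ i) (hm : m.rev = m) {a b : K} (hb : b ≠ 0)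
    (h : b + C.σ b + a * C.σ a = 0) : midLow C hi hm a b ∈ C.G := by
  refine midSL_mem C _ hm ?_
  have := sigma_ne_zero (C := C) hb
  rw [map_inv₀, C.invol, map_neg, map_div₀]
  field_simp
  linear_combination h

/-- The monomial element of the middle rank one subgroup. -/
def wMid (C : Ctx n K) {i m : Fin n} (hi : i.rev ≠ i) (hm : m.rev = m) (a b : K) :
    SpecialLinearGroup (Fin n) K :=
  midSL C hi hm a b * midLow C hi hm a b * midSL C hi hm (a * C.σ b / b) b

/-- The coefficients of `wMid`. -/
def wMidD (C : Ctx n K) (i m : Fin n) (b : K) : Fin n → K := fun l =>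
  if l = i then (C.σ b)⁻¹ else if l = m then -(C.σ b / b) else if l = i.rev then b else 1

theorem wMid_param {a b : K} (hb : b ≠ 0) (h : b + C.σ b + a * C.σ a = 0) :
    b + C.σ b + a * C.σ b / b * C.σ (a * C.σ b / b) = 0 := by
  have := sigma_ne_zero (C := C) hb
  rw [map_div₀, map_mul, C.invol]
  field_simp
  linear_combination h

theorem wMid_mem {i m : Fin n} (hi : i.rev ≠ i) (hm : m.rev = m) {a b : K} (hb : b ≠ 0)
    (h : b + C.σ b + a * C.σ a = 0) : wMid C hi hm a b ∈ C.G :=
  C.G.mul_mem (C.G.mul_mem (midSL_mem C hi hm h) (midLow_mem hi hm hb h)) (midSL_mem C hi hm (wMid_param hb h))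

theorem wMid_mono {i m : Fin n} (hi : i.rev ≠ i) (hm : m.rev = m) {a b : K} (hb : b ≠ 0)
    (h : b + C.σ b + a * C.σ a = 0) : IsMono (wMid C hi hm a b) (Equiv.swap i i.rev) (wMidD C i m b) := by
  obtain ⟨n1, n2⟩ := mid_ne hi hm
  have hb' := sigma_ne_zero (C := C) hb
  have h' : C.σ b = -b - a * C.σ a := by linear_combination h
  set A := midSL C hi hm a b
  set Y := midLow C hi hm a b
  have hAY : ⇈(A * Y) = 1 + (single i i (-1) + single i i.rev b + single m i.rev (-(C.σ a)) +
      single m m (-(C.σ b / b) - 1) + single i.rev i (C.σ b)⁻¹ + single i.rev m (-(a / b))) := by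
    rw [coe_mul', midSL_coe, midLow_coe]
    simp only [Matrix.add_mul, Matrix.one_mul, Matrix.mul_add, Matrix.mul_one, single_mul_ite, n1, n1.symm, n2,
      n2.symm, hi, hi.symm, if_true, if_false, add_zero, zero_add]
    have e1 : single i i (-1 : K) = single i i (a * (C.σ a / C.σ b)) + single i i (b * (C.σ b)⁻¹) := by
      rw [← Matrix.single_add]; congr 1; field_simp; linear_combination -h'
    have e2 : single m m (-(C.σ b / b) - 1) = single m m (-(C.σ a) * -(a / b)) := by
      congr 1; field_simp; linear_combination -h'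
    have e3 : single m i (C.σ a / C.σ b) + single m i (-(C.σ a) * (C.σ b)⁻¹) = 0 := by
      rw [← Matrix.single_add]; simp [div_eq_mul_inv]
    have e4 : single i m a + single i m (b * -(a / b)) = 0 := by
      rw [← Matrix.single_add]
      rw [show a + b * -(a / b) = 0 by field_simp; ring]; simp
    calc _ = 1 + ((single i i (a * (C.σ a / C.σ b)) + single i i (b * (C.σ b)⁻¹)) + single i i.rev b +
          single m i.rev (-(C.σ a)) + single m m (-(C.σ a) * -(a / b)) + single i.rev i (C.σ b)⁻¹ +
          single i.rev m (-(a / b)) + (single m i (C.σ a / C.σ b) + single m i (-(C.σ a) * (C.σ b)⁻¹)) +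
          (single i m a + single i m (b * -(a / b)))) := by abel
      _ = _ := by rw [← e1, ← e2, e3, e4]; abel
  clear h'
  intro r l
  rw [wMid, coe_mul', hAY, midSL_coe]
  simp only [Matrix.add_mul, Matrix.one_mul, Matrix.mul_add, Matrix.mul_one, single_mul_ite, n1, n1.symm, n2,
    n2.symm, hi, hi.symm, if_true, if_false, add_zero, zero_add]
  simp only [Matrix.add_apply, Matrix.single_apply, Matrix.one_apply, wMidD, map_div₀, map_mul, C.invol]
  have := hi.symm; have := n1.symm; have := n2.symm
  by_cases hli : l = i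
  · subst hli
    by_cases hr : r = l.rev
    · subst hr; simp [*]
    · by_cases hr1 : r = l
      · subst hr1; simp [*]
      · by_cases hr2 : r = m
        · subst hr2; simp [*]
        · simp [Equiv.swap_apply_left, Ne.symm hr, Ne.symm hr1, Ne.symm hr2, hr, hr1, hr2, *]
  by_cases hlm : l = m
  · subst hlm
    have hsw : Equiv.swap i i.rev l = l := Equiv.swap_apply_of_ne_of_ne n1 n2
    by_cases hr : r = l
    · subst hr; simp [*]
    · by_cases hr1 : r = i
      · subst hr1; simp [*]
      · by_cases hr2 : r = i.rev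
        · subst hr2; simp [*]; field_simp; ring
        · simp [hsw, Ne.symm hr, Ne.symm hr1, Ne.symm hr2, hr, hr1, hr2, *]
  by_cases hlr : l = i.rev
  · subst hlr
    by_cases hr : r = i
    · subst hr; simp [*]
    · by_cases hr1 : r = i.rev
      · subst hr1; simp [*]; field_simp; linear_combination h
      · by_cases hr2 : r = m
        · subst hr2; simp [*]; field_simp; ring
        · simp [Equiv.swap_apply_right, Ne.symm hr, Ne.symm hr1, Ne.symm hr2, hr, hr1, hr2, *]
  simp [Equiv.swap_apply_of_ne_of_ne hli hlr, Ne.symm hli, Ne.symm hlm, Ne.symm hlr, hli, hlm, hlr]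

theorem diag_of_mono {g h : SpecialLinearGroup (Fin n) K} {π : Equiv.Perm (Fin n)} {d d' : Fin n → K}
    (hg : IsMono g π d) (hh : IsMono h π d') :
    (∀ r l : Fin n, l < r → ⇈(g * h⁻¹) r l = 0) ∧ ∀ r, ⇈(g * h⁻¹) r r = d (π.symm r) / d' (π.symm r) := by
  rw [hg.div hh]
  exact ⟨fun r l hlr => Matrix.diagonal_apply_ne _ hlr.ne', fun r => Matrix.diagonal_apply_eq _ r⟩

/-- A subgroup containing U and the rank one tori contains every upper triangular element of the form group. -/
theorem triangular_le (H : Subgroup (SpecialLinearGroup (Fin n) K)) (hU : C.U ≤ H)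
    (hA : ∀ (i j : Fin n) (h : Short i j), (j : ℕ) = (i : ℕ) + 1 → j < j.rev → ∀ s : K, s ≠ 0 →
      wShort C h s * (wShort C h 1)⁻¹ ∈ H)
    (hL : ∀ (i : Fin n) (h : i.rev ≠ i), (i.rev : ℕ) = (i : ℕ) + 1 → ∀ c d : K, c ≠ 0 → d ≠ 0 →
      c + C.κ * C.σ c = 0 → d + C.κ * C.σ d = 0 → wLong h c * (wLong h d)⁻¹ ∈ H)
    (hM : ∀ (i m : Fin n) (hi : i.rev ≠ i) (hm : m.rev = m), (m : ℕ) = (i : ℕ) + 1 → ∀ a b a' b' : K, b ≠ 0 →
      b' ≠ 0 → b + C.σ b + a * C.σ a = 0 → b' + C.σ b' + a' * C.σ a' = 0 →
      wMid C hi hm a b * (wMid C hi hm a' b')⁻¹ ∈ H)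
    {g : SpecialLinearGroup (Fin n) K} (hg : g ∈ C.G) (hT : ∀ r l : Fin n, l < r → ⇈g r l = 0) : g ∈ H := by
  suffices key : ∀ f k : ℕ, f + k = n → ∀ g ∈ C.G, (∀ r l : Fin n, l < r → ⇈g r l = 0) →
      (∀ r : Fin n, r < r.rev → (r : ℕ) < k → ⇈g r r = 1) → g ∈ H from
    key n 0 (add_zero n) g hg hT fun r _ h => absurd h (by omega)
  intro f
  induction f with
  | zero =>
    intro k hk g hg hT h1
    have hne : ∀ r, ⇈g r r ≠ 0 := UniTri.diag_ne_zero fun r l h => hT r l h
    have hhalf : ∀ r : Fin n, r ≠ r.rev → ⇈g r r = 1 := by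
      intro r hr
      rcases lt_or_gt_of_ne hr with h | h
      · exact h1 r h (by omega)
      · have e := diag_mirror hg hT r.rev
        rw [Fin.rev_rev, h1 r.rev (by rwa [Fin.rev_rev]) (by omega), one_mul] at e
        rw [← C.invol (⇈g r r), e, map_one]
    refine hU (mem_U.2 ⟨⟨hT, fun r => ?_⟩, hg⟩)
    by_cases hr : r = r.rev
    · have hdet := g.2
      rw [Matrix.det_of_isUpperTriangular (fun a b h => hT a b h), Finset.prod_eq_single r] at hdet
      · exact hdet
      · intro b _ hb
        refine hhalf b fun e => hb (Fin.ext ?_)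
        have e1 := congrArg Fin.val e
        have e2 := congrArg Fin.val hr
        rw [Fin.val_rev] at e1 e2
        omega
      · simp
    · exact hhalf r hr
  | succ f ih =>
    intro k hk g hg hT h1
    by_cases hkk : (⟨k, by omega⟩ : Fin n) < (⟨k, by omega⟩ : Fin n).rev
    swap
    · refine ih (k + 1) (by omega) g hg hT fun r hr hrk => ?_
      rcases eq_or_lt_of_le (show (r : ℕ) ≤ k by omega) with h | h
      · rw [show r = ⟨k, by omega⟩ from Fin.ext h] at hr
        exact absurd hr hkk
      · exact h1 r hr h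
    set i : Fin n := ⟨k, by omega⟩ with hidef
    set s := ⇈g i i with hsdef
    have hs : s ≠ 0 := UniTri.diag_ne_zero (fun r l h => hT r l h) i
    suffices ht : ∃ t ∈ H, t ∈ C.G ∧ (∀ r l : Fin n, l < r → ⇈t r l = 0) ∧ ⇈t i i = s⁻¹ ∧
        ∀ r : Fin n, (r : ℕ) < k → ⇈t r r = 1 by
      obtain ⟨t, htH, htG, htT, hti, htr⟩ := ht
      have htri : ∀ r l : Fin n, l < r → ⇈(t * g) r l = 0 := by
        intro r l hlr
        rw [coe_mul', Matrix.mul_apply]
        refine Finset.sum_eq_zero fun x _ => ?_
        rcases lt_or_ge x r with hx | hx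
        · rw [htT r x hx, zero_mul]
        · rw [hT x l (lt_of_lt_of_le hlr hx), mul_zero]
      have hm := ih (k + 1) (by omega) (t * g) (C.G.mul_mem htG hg) htri fun r hr hrk => by
        rw [diag_mul htT hT]
        rcases eq_or_lt_of_le (show (r : ℕ) ≤ k by omega) with h | h
        · rw [show r = i from Fin.ext h, hti, inv_mul_cancel₀ hs]
        · rw [htr r h, h1 r hr h, one_mul]
      have := H.mul_mem (H.inv_mem htH) hm
      rwa [inv_mul_cancel_left] at this
    have hk1 : k + 1 < n := by
      have := Fin.lt_def.1 hkk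
      simp only [hidef, Fin.val_rev] at this
      omega
    set j : Fin n := ⟨k + 1, hk1⟩ with hjdef
    have hji : (j : ℕ) = (i : ℕ) + 1 := rfl
    have hij : i < j := Fin.lt_def.2 (show k < k + 1 by omega)
    rcases lt_trichotomy j j.rev with hj | hj | hj
    · have h := short_of_lt hij (hj.trans (Fin.rev_lt_rev.2 hij)) hj.ne'
      have hd := diag_of_mono (wShort_mono (C := C) h (inv_ne_zero hs)) (wShort_mono (C := C) h one_ne_zero)
      refine ⟨_, hA i j h hji hj _ (inv_ne_zero hs), C.G.mul_mem (wShort_mem h _) (C.G.inv_mem (wShort_mem h 1)),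
        hd.1, ?_, fun r hr => ?_⟩
      · rw [hd.2]
        have e : (Equiv.swap i j * Equiv.swap i.rev j.rev).symm i = j := by
          rw [Equiv.symm_apply_eq]
          simp [Equiv.swap_apply_of_ne_of_ne, h.ne_rev_left, h.moved'.symm]
        simp [e, wShortD]
      · rw [hd.2]
        have n1 : r ≠ i := fun e => by rw [e, hidef] at hr; exact lt_irrefl _ hr
        have n2 : r ≠ j := fun e => by rw [e, hjdef] at hr; simp at hr
        have n3 : r ≠ i.rev := fun e => by
          have := congrArg Fin.val e
          have := Fin.lt_def.1 hkk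
          simp only [hidef, Fin.val_rev] at *; omega
        have n4 : r ≠ j.rev := fun e => by
          have := congrArg Fin.val e
          have := Fin.lt_def.1 hj
          simp only [hjdef, Fin.val_rev] at *; omega
        have e : (Equiv.swap i j * Equiv.swap i.rev j.rev).symm r = r := by
          rw [Equiv.symm_apply_eq]
          simp [Equiv.swap_apply_of_ne_of_ne, n1, n2, n3, n4]
        simp [e, wShortD, n1, n2, n3, n4]
    · have hm := hj.symm
      have hi := hkk.ne'
      have hκ := C.mid_kap j hm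
      obtain ⟨a, ha⟩ := C.mid_norm j hm (-(s⁻¹ + C.σ s⁻¹)) (by rw [map_neg, map_add, C.invol, add_comm])
      obtain ⟨a', ha'⟩ := C.mid_norm j hm (-(1 + C.σ 1)) (by simp)
      have hp : s⁻¹ + C.σ s⁻¹ + a * C.σ a = 0 := by linear_combination ha
      have hp' : (1 : K) + C.σ 1 + a' * C.σ a' = 0 := by linear_combination ha'
      have hd := diag_of_mono (wMid_mono hi hm (inv_ne_zero hs) hp) (wMid_mono hi hm one_ne_zero hp')
      refine ⟨_, hM i j hi hm hji a _ a' 1 (inv_ne_zero hs) one_ne_zero hp hp',
        C.G.mul_mem (wMid_mem hi hm (inv_ne_zero hs) hp) (C.G.inv_mem (wMid_mem hi hm one_ne_zero hp')),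
        hd.1, ?_, fun r hr => ?_⟩
      · rw [hd.2, Equiv.symm_swap, Equiv.swap_apply_left]
        have n2 : i.rev ≠ j := (mid_ne hi hm).2.symm
        simp [wMidD, hi, n2]
      · rw [hd.2]
        have n1 : r ≠ i := fun e => by rw [e, hidef] at hr; exact lt_irrefl _ hr
        have n2 : r ≠ j := fun e => by rw [e, hjdef] at hr; simp at hr
        have n3 : r ≠ i.rev := fun e => by
          have := congrArg Fin.val e
          have := Fin.lt_def.1 hkk
          simp only [hidef, Fin.val_rev] at *; omega
        rw [Equiv.symm_swap, Equiv.swap_apply_of_ne_of_ne n1 n3]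
        simp [wMidD, n1, n2, n3]
    · have hji' : (i.rev : ℕ) = (i : ℕ) + 1 := by
        have := Fin.lt_def.1 hkk
        have := Fin.lt_def.1 hj
        simp only [hidef, hjdef, Fin.val_rev] at *; omega
      have hi := hkk.ne'
      -- all earlier diagonal entries are one, so s is fixed by σ
      have hfix : C.σ s = s := by
        have hprod := g.2
        rw [Matrix.det_of_isUpperTriangular (fun a b h => hT a b h), Finset.prod_eq_mul i i.rev hkk.ne] at hprod
        · have e := diag_mirror hg hT i
          rw [← hsdef] at hprod e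
          have hz : ⇈g i.rev i.rev = s⁻¹ := eq_inv_of_mul_eq_one_right hprod
          rw [hz, map_inv₀] at e
          exact ((mul_inv_eq_one₀ (sigma_ne_zero hs)).1 e).symm
        · intro b _ hb
          have hbi : (b : ℕ) ≠ k := fun e => hb.1 (Fin.ext e)
          have hbr : (b : ℕ) ≠ k + 1 := fun e => hb.2 (Fin.ext (by rw [hji']; exact e))
          rcases lt_or_gt_of_ne (show b ≠ b.rev from fun e => by
            have := congrArg Fin.val e
            simp only [hidef, Fin.val_rev] at *; omega) with h | h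
          · refine h1 b h ?_
            have := Fin.lt_def.1 h
            simp only [hidef, Fin.val_rev] at *; omega
          · have e := diag_mirror hg hT b.rev
            rw [Fin.rev_rev, h1 b.rev (by rwa [Fin.rev_rev]) (by
              have := Fin.lt_def.1 h
              simp only [hidef, Fin.val_rev] at *; omega), one_mul] at e
            rw [← C.invol (⇈g b b), e, map_one]
        · simp
        · simp
      obtain ⟨c0, hc0, hc⟩ := C.exists_skew
      have hc1 : s⁻¹ * c0 + C.κ * C.σ (s⁻¹ * c0) = 0 := by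
        rw [map_mul, map_inv₀, hfix]; linear_combination s⁻¹ * hc
      have hd := diag_of_mono (wLong_mono hi (mul_ne_zero (inv_ne_zero hs) hc0)) (wLong_mono hi hc0)
      refine ⟨_, hL i hi hji' _ _ (mul_ne_zero (inv_ne_zero hs) hc0) hc0 hc1 hc,
        C.G.mul_mem (wLong_mem hi (mul_ne_zero (inv_ne_zero hs) hc0) hc1) (C.G.inv_mem (wLong_mem hi hc0 hc)),
        hd.1, ?_, fun r hr => ?_⟩
      · rw [hd.2, Equiv.symm_swap, Equiv.swap_apply_left]
        simp [wLongD, hc0]
      · rw [hd.2]
        have n1 : r ≠ i := fun e => by rw [e, hidef] at hr; exact lt_irrefl _ hr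
        have n3 : r ≠ i.rev := fun e => by
          have := congrArg Fin.val e
          simp only [hidef, Fin.val_rev] at *; omega
        rw [Equiv.symm_swap, Equiv.swap_apply_of_ne_of_ne n1 n3]
        simp [wLongD, n1, n3]

end Cfsg.Agent.FormTri
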