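import Cfsg.Agent.FormTri.Closed
import Cfsg.Agent.FormTri.Torus
import Cfsg.Agent.GroupSub.Data
import Cfsg.Agent.Core.Solvable

/-!
Simplicity of the fusion system of a central quotient of the antidiagonal form group at its characteristic.
-/

set_option autoImplicit false

namespace Cfsg.Agent.FormTri

open Matrix

variable {n : ℕ} {K : Type*} [Field K] {C : Ctx n K}

/-- The underlying matrix. -/
local notation:max "⇈" A:max => ((A : SpecialLinearGroup (Fin n) K) : Matrix (Fin n) (Fin n) K)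

/-- Upper triangular in blocks. -/
def Par (blk : Fin n → ℕ) (g : SpecialLinearGroup (Fin n) K) : Prop :=
  ∀ r l : Fin n, blk l < blk r → ⇈g r l = 0

theorem Par.mul {blk : Fin n → ℕ} {g h : SpecialLinearGroup (Fin n) K} (hg : Par blk g) (hh : Par blk h) :
    Par blk (g * h) := fun r l hlr => by
  rw [coe_mul', Matrix.mul_apply]
  refine Finset.sum_eq_zero fun s _ => ?_
  by_cases h1 : blk s < blk r
  · rw [hg r s h1, zero_mul]
  · rw [hh s l (lt_of_lt_of_le hlr (not_lt.1 h1)), mul_zero]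

theorem par_of_unitri {blk : Fin n → ℕ} (hm : Monotone blk) {g : SpecialLinearGroup (Fin n) K}
    (hg : g ∈ UniTri.unitri n K) : Par blk g := fun r l h =>
  (UniTri.mem_unitri.1 hg).1 r l (not_le.1 fun hle => not_lt.2 (hm hle) h)

/-- The radical attached to a block map. -/
def Rad (C : Ctx n K) (blk : Fin n → ℕ) (hm : Monotone blk) : Subgroup (SpecialLinearGroup (Fin n) K) where
  carrier := {g | g ∈ C.U ∧ ∀ r l : Fin n, r ≠ l → blk r = blk l → ⇈g r l = 0}
  mul_mem' {a b} ha hb := ⟨C.U.mul_mem ha.1 hb.1, fun r l hne he => by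
    rw [coe_mul', Matrix.mul_apply]
    refine Finset.sum_eq_zero fun s _ => ?_
    obtain ⟨⟨aU, -⟩, -⟩ := mem_U.1 ha.1
    obtain ⟨⟨bU, -⟩, -⟩ := mem_U.1 hb.1
    by_cases h1 : s < r
    · rw [aU r s h1, zero_mul]
    by_cases h2 : l < s
    · rw [bU s l h2, mul_zero]
    have e1 : blk r = blk s := le_antisymm (hm (not_lt.1 h1)) (he ▸ hm (not_lt.1 h2))
    by_cases h3 : r = s
    · subst h3; rw [hb.2 r l hne he, mul_zero]
    · rw [ha.2 r s h3 e1, zero_mul]⟩
  one_mem' := ⟨C.U.one_mem, fun r l hne _ => by simp [Matrix.one_apply_ne hne]⟩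
  inv_mem' {a} ha := ⟨C.U.inv_mem ha.1, fun r l hne he => by
    obtain ⟨⟨aU, aD⟩, -⟩ := mem_U.1 ha.1
    obtain ⟨⟨iU, -⟩, -⟩ := mem_U.1 (C.U.inv_mem ha.1)
    have h := congrArg (fun X : SpecialLinearGroup (Fin n) K => ⇈X r l) (mul_inv_cancel a)
    simp only [coe_mul', Matrix.mul_apply] at h
    rw [Finset.sum_eq_single r, aD, one_mul] at h
    · rw [h]; simp [Matrix.one_apply_ne hne]
    · intro s _ hs
      by_cases h1 : s < r
      · rw [aU r s h1, zero_mul]
      by_cases h2 : l < s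
      · rw [iU s l h2, mul_zero]
      rw [ha.2 r s hs.symm (le_antisymm (hm (not_lt.1 h1)) (he ▸ hm (not_lt.1 h2))), zero_mul]
    · simp⟩

/-- Block triangular elements of the form group normalize the radical. -/
theorem conj_rad {blk : Fin n → ℕ} {hm : Monotone blk} {g x : SpecialLinearGroup (Fin n) K} (hg : g ∈ C.G)
    (hP : Par blk g) (hP' : Par blk g⁻¹) (hx : x ∈ Rad C blk hm) : g * x * g⁻¹ ∈ Rad C blk hm := by
  obtain ⟨⟨xU, xD⟩, xG⟩ := mem_U.1 hx.1
  set X := ⇈g * (⇈x - 1) * ⇈(g⁻¹) with hX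
  have e : ⇈(g * x * g⁻¹) = 1 + X := by
    rw [hX, coe_mul', coe_mul', Matrix.mul_sub, Matrix.sub_mul, Matrix.mul_one, ← coe_mul' g g⁻¹, mul_inv_cancel]
    show _ = (1 : Matrix (Fin n) (Fin n) K) + (_ - 1)
    abel
  have hzero : ∀ r l : Fin n, blk l ≤ blk r → X r l = 0 := by
    intro r l hlr
    rw [hX, Matrix.mul_apply]
    refine Finset.sum_eq_zero fun t _ => ?_
    by_cases ht : blk l < blk t
    · rw [hP' t l ht, mul_zero]
    rw [Matrix.mul_apply, Finset.sum_mul]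
    refine Finset.sum_eq_zero fun s _ => ?_
    by_cases hs : blk s < blk r
    · rw [hP r s hs, zero_mul, zero_mul]
    have hle : blk t ≤ blk s := (not_lt.1 ht).trans (hlr.trans (not_lt.1 hs))
    rw [Matrix.sub_apply]
    by_cases hst : s = t
    · subst hst; rw [xD, Matrix.one_apply_eq, sub_self, mul_zero, zero_mul]
    rw [Matrix.one_apply_ne hst, sub_zero]
    rcases eq_or_lt_of_le hle with h | h
    · rw [hx.2 s t hst h.symm, mul_zero, zero_mul]
    · rw [xU s t (not_le.1 fun h' => not_lt.2 (hm h') h), mul_zero, zero_mul]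
  refine ⟨⟨mem_unitri_one_add e fun r l hlr => hzero r l (hm hlr),
    C.G.mul_mem (C.G.mul_mem hg xG) (C.G.inv_mem hg)⟩, fun r l hne he => ?_⟩
  rw [e, Matrix.add_apply, Matrix.one_apply_ne hne, hzero r l he.ge, add_zero]

theorem pow_p_sq (p : ℕ) [Fact p.Prime] [CharP K p] {x : SpecialLinearGroup (Fin n) K}
    {X : Matrix (Fin n) (Fin n) K} (e : ⇈x = 1 + X) (h3 : X * X * X = 0) : x ^ p ^ 2 = 1 := by
  refine Subtype.ext ?_
  rcases Nat.eq_zero_or_pos n with hn | hn
  · subst hn; exact Matrix.ext fun i => i.elim0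
  haveI : Nonempty (Fin n) := ⟨⟨0, hn⟩⟩
  rw [Matrix.SpecialLinearGroup.coe_pow, Matrix.SpecialLinearGroup.coe_one, e, add_comm,
    add_pow_char_pow_of_commute p 2 (Commute.one_right X), one_pow]
  have hp : 3 ≤ p ^ 2 := le_trans (by norm_num) (Nat.pow_le_pow_left (Fact.out : p.Prime).two_le 2)
  rw [pow_eq_zero_of_le hp (by rw [pow_succ, pow_two]; exact h3), zero_add]

section Quotient

variable {Γ : Type*} [Group Γ] (φ : C.G →* Γ)

/-- The image of U. -/
abbrev uBar : Subgroup Γ := (C.U.subgroupOf C.G).map φ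

variable {φ} (hker : ∀ x : C.G, φ x = 1 → x ∈ Subgroup.center C.G)
include hker

theorem commute_of_ker {z : C.G} (hz : φ z = 1) {g : SpecialLinearGroup (Fin n) K} (hg : g ∈ C.G) :
    g * z.1 = z.1 * g :=
  congrArg Subtype.val (Subgroup.mem_center_iff.1 (hker z hz) ⟨g, hg⟩)

theorem ker_p_trivial (p : ℕ) [Fact p.Prime] [CharP K p] (hn : 4 ≤ n) {z : C.G} (hz : φ z = 1) {k : ℕ}
    (hk : (z : SpecialLinearGroup (Fin n) K) ^ p ^ k = 1) : (z : SpecialLinearGroup (Fin n) K) = 1 := by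
  have hT : ∀ u ∈ C.U, (z : SpecialLinearGroup (Fin n) K)⁻¹ * u * z.1 ∈ C.U := fun u hu => by
    rw [mul_assoc, commute_of_ker hker hz (U_le_G hu), inv_mul_cancel_left]; exact hu
  have hU := mem_U_of_triangular p z.2 (triangular_of_normalizes hT) hk
  exact central_eq_one hn hU (fun u hu => commute_of_ker hker hz (U_le_G hu))
    (fun g hg => commute_of_ker hker hz hg)

theorem commute_lift (p : ℕ) [Fact p.Prime] [CharP K p] (hn : 4 ≤ n) {x y : C.G}
    (hx : (x : SpecialLinearGroup (Fin n) K) ∈ C.U) (hy : (y : SpecialLinearGroup (Fin n) K) ∈ C.U)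
    (h : φ x * φ y = φ y * φ x) : (x : SpecialLinearGroup (Fin n) K) * y.1 = y.1 * x.1 := by
  have h1 : φ ((y * x)⁻¹ * (x * y)) = 1 := by rw [map_mul, map_inv, map_mul, map_mul, h, inv_mul_cancel]
  obtain ⟨k, hk⟩ := isPGroup_U (C := C) p ⟨_, C.U.mul_mem (C.U.inv_mem (C.U.mul_mem hy hx)) (C.U.mul_mem hx hy)⟩
  have h2 := ker_p_trivial hker p hn h1 (k := k) (congrArg Subtype.val hk)
  exact (inv_mul_eq_one.1 h2).symm

theorem strongly_closed [Finite K] (p : ℕ) [Fact p.Prime] [CharP K p] (hn : 4 ≤ n)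
    (hbig : (∀ x, C.σ x = x) → 6 ≤ n ∨ ∃ t : K, t ≠ 0 ∧ t ≠ 1) (T : Subgroup Γ)
    (hT : GroupSub.EltClosed (uBar φ) T) : T = ⊥ ∨ T = uBar φ := by
  by_cases hb : T = ⊥
  · exact Or.inl hb
  refine Or.inr (le_antisymm hT.1 ?_)
  set V₀ : Subgroup C.G := T.comap φ ⊓ C.U.subgroupOf C.G with hV₀
  have hcl : Closed C (V₀.map C.G.subtype) := by
    refine ⟨?_, ?_⟩
    · rintro _ ⟨x, hx, rfl⟩; exact hx.2
    · rintro _ ⟨x, hx, rfl⟩ g hg hgu
      set g' : C.G := ⟨g, hg⟩ with hg'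
      have hval : ((g' * x * g'⁻¹ : C.G) : SpecialLinearGroup (Fin n) K) = g * C.G.subtype x * g⁻¹ := by
        rw [Subgroup.coe_mul, Subgroup.coe_mul, Subgroup.coe_inv, Subgroup.subtype_apply]
      have hy : g' * x * g'⁻¹ ∈ C.U.subgroupOf C.G := by rw [Subgroup.mem_subgroupOf, hval]; exact hgu
      refine Subgroup.mem_map.2 ⟨g' * x * g'⁻¹, Subgroup.mem_inf.2 ⟨?_, hy⟩, hval⟩
      rw [Subgroup.mem_comap]
      have hmem : φ (g' * x * g'⁻¹) ∈ uBar φ := Subgroup.mem_map_of_mem φ hy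
      rw [map_mul, map_mul, map_inv] at hmem ⊢
      exact hT.2 _ hx.1 _ hmem
  set W : Subgroup C.U := (V₀.map C.G.subtype).subgroupOf C.U with hW
  haveI hWn : W.Normal := ⟨fun v hv u =>
    hcl.conj _ hv _ (U_le_G u.2) (C.U.mul_mem (C.U.mul_mem u.2 v.2) (C.U.inv_mem u.2))⟩
  have hWne : W ≠ ⊥ := by
    intro h
    apply hb
    rw [Subgroup.eq_bot_iff_forall]
    intro t ht
    obtain ⟨u, hu, rfl⟩ := hT.1 ht
    have hu' : (⟨u.1, hu⟩ : C.U) ∈ W := ⟨u, ⟨ht, hu⟩, rfl⟩
    rw [h, Subgroup.mem_bot] at hu'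
    rw [show u = 1 from Subtype.ext (congrArg Subtype.val hu' :), map_one]
  haveI : Finite C.U := inferInstance
  haveI : Group.IsNilpotent C.U := (isPGroup_U (C := C) p).isNilpotent
  obtain ⟨z, hz, hz1⟩ := (Subgroup.bot_or_exists_ne_one _).resolve_left (Core.inf_center_ne_bot hWne)
  have heq := hcl.eq hn hbig hz.1 (fun e => hz1 (Subtype.ext e))
    (fun u hu => congrArg Subtype.val (Subgroup.mem_center_iff.1 hz.2 ⟨u, hu⟩))
  rintro _ ⟨u, hu, rfl⟩
  have hu2 : (u : SpecialLinearGroup (Fin n) K) ∈ V₀.map C.G.subtype := by rw [heq]; exact hu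
  obtain ⟨v, hv, he⟩ := hu2
  rw [show u = v from Subtype.ext he.symm]
  exact hv.1

omit hker in
theorem map_mem_closure {p : ℕ} {Rb : Subgroup Γ} {g : SpecialLinearGroup (Fin n) K} (hg : g ∈ C.G) {k : ℕ}
    (hk : g ^ p ^ k = 1) (hp : p.Prime) (hnorm : ∀ y ∈ Rb, φ ⟨g, hg⟩ * y * (φ ⟨g, hg⟩)⁻¹ ∈ Rb) [Finite Γ] :
    φ ⟨g, hg⟩ ∈ Subgroup.closure {u : Γ | u ∈ Subgroup.normalizer (Rb : Set Γ) ∧ ∃ k : ℕ, orderOf u = p ^ k} := by
  refine Subgroup.subset_closure ⟨GroupSub.mem_normalizer_of_cj_le ?_, ?_⟩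
  · rintro _ ⟨y, hy, rfl⟩; exact hnorm y hy
  · have h1 : φ ⟨g, hg⟩ ^ p ^ k = 1 := by
      rw [← map_pow, show (⟨g, hg⟩ : C.G) ^ p ^ k = 1 from Subtype.ext hk, map_one]
    obtain ⟨j, -, hj⟩ := (Nat.dvd_prime_pow hp).1 (orderOf_dvd_of_pow_eq_one h1)
    exact ⟨j, hj⟩

/-- A torus element which is a product of p-elements of a parabolic lies among the generators. -/
theorem mem_gen (p : ℕ) [Fact p.Prime] [CharP K p] [Finite Γ] (hn : 4 ≤ n) (S₀ : Sylow p Γ)
    (hS₀ : (S₀ : Subgroup Γ) = uBar φ) {blk : Fin n → ℕ} (hm : Monotone blk)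
    (hcent : ∀ u ∈ C.U, (∀ A ∈ Rad C blk hm, A * u = u * A) → u ∈ Rad C blk hm)
    {d : SpecialLinearGroup (Fin n) K} (hd : d ∈ C.G) (hdiag : ∃ v : Fin n → K, ⇈d = Matrix.diagonal v)
    (hcl : d ∈ Subgroup.closure {g | g ∈ C.G ∧ g ^ p ^ 2 = 1 ∧ Par blk g ∧ Par blk g⁻¹}) :
    φ ⟨d, hd⟩ ∈ Subgroup.closure (GroupSub.radGens p (uBar φ)) := by
  set Rb : Subgroup Γ := ((Rad C blk hm).subgroupOf C.G).map φ with hRb
  have hnorm : ∀ (g : SpecialLinearGroup (Fin n) K) (hg : g ∈ C.G), Par blk g → Par blk g⁻¹ →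
      ∀ y ∈ Rb, φ ⟨g, hg⟩ * y * (φ ⟨g, hg⟩)⁻¹ ∈ Rb := by
    rintro g hg h1 h2 _ ⟨x, hx, rfl⟩
    have hmem : (⟨g, hg⟩ * x * ⟨g, hg⟩⁻¹ : C.G) ∈ (Rad C blk hm).subgroupOf C.G := by
      rw [Subgroup.mem_subgroupOf, Subgroup.coe_mul, Subgroup.coe_mul, Subgroup.coe_inv]
      exact conj_rad hg h1 h2 (Subgroup.mem_subgroupOf.1 hx)
    have := Subgroup.mem_map_of_mem φ hmem
    rwa [map_mul, map_mul, map_inv] at this
  have hn' : uBar φ ≤ Subgroup.normalizer (Rb : Set Γ) := by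
    rintro _ ⟨u, hu, rfl⟩
    refine GroupSub.mem_normalizer_of_cj_le ?_
    rintro _ ⟨y, hy, rfl⟩
    exact hnorm u.1 u.2 (par_of_unitri hm hu.1) (par_of_unitri hm (C.U.inv_mem hu).1) y hy
  have hRU : Rb ≤ uBar φ := Subgroup.map_mono fun x hx => hx.1
  obtain ⟨v, hv⟩ := hdiag
  refine Subgroup.subset_closure ⟨GroupSub.mem_normalizer_of_cj_le ?_, Rb, ?_, hn', ?_⟩
  · rintro _ ⟨_, ⟨u, hu, rfl⟩, rfl⟩
    have hT : ∀ r l : Fin n, l < r → ⇈d r l = 0 := fun r l h => by rw [hv, Matrix.diagonal_apply_ne _ h.ne']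
    refine ⟨⟨d, hd⟩ * u * ⟨d, hd⟩⁻¹, ?_, by simp [MulAut.conj_apply, map_mul, map_inv]⟩
    obtain ⟨k, hk⟩ := isPGroup_U (C := C) p ⟨u.1, hu⟩
    have hinv : ∀ r l : Fin n, l < r → ⇈(d⁻¹) r l = 0 := by
      intro r l hlr
      have h := congrArg (fun X : SpecialLinearGroup (Fin n) K => ⇈X r l) (mul_inv_cancel d)
      simp only [coe_mul', hv, Matrix.diagonal_mul] at h
      have hne : v r ≠ 0 := by
        have := UniTri.diag_ne_zero (g := d) (fun a b h => hT a b h) r
        rwa [hv, Matrix.diagonal_apply_eq] at this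
      exact (mul_eq_zero.1 (h.trans (by simp [Matrix.one_apply_ne hlr.ne']))).resolve_left hne
    have htri : ∀ {A B : SpecialLinearGroup (Fin n) K}, (∀ r l : Fin n, l < r → ⇈A r l = 0) →
        (∀ r l : Fin n, l < r → ⇈B r l = 0) → ∀ r l : Fin n, l < r → ⇈(A * B) r l = 0 := by
      intro A B hA hB r l hlr
      rw [coe_mul', Matrix.mul_apply]
      refine Finset.sum_eq_zero fun x _ => ?_
      rcases lt_or_ge x r with hx | hx
      · rw [hA r x hx, zero_mul]
      · rw [hB x l (lt_of_lt_of_le hlr hx), mul_zero]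
    refine mem_U_of_triangular p (C.G.mul_mem (C.G.mul_mem hd u.2) (C.G.inv_mem hd))
      (htri (htri hT (mem_U.1 hu).1.1) hinv) (k := k) ?_
    show (d * u.1 * d⁻¹) ^ p ^ k = 1
    rw [conj_pow, show u.1 ^ p ^ k = 1 from congrArg Subtype.val hk, mul_one, mul_inv_cancel]
  · rw [← hS₀]
    refine GroupSub.pCentric_of_normal S₀ (hS₀.symm ▸ hRU) (hS₀.symm ▸ hn') ?_
    rw [hS₀]
    rintro _ ⟨⟨u, hu, rfl⟩, hc⟩
    refine ⟨u, hcent u.1 hu (fun A hA => ?_), rfl⟩
    exact commute_lift hker p hn (x := ⟨A, U_le_G hA.1⟩) hA.1 hu (hc _ ⟨⟨A, U_le_G hA.1⟩, hA, rfl⟩)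
  · have key : Subgroup.closure {g | g ∈ C.G ∧ g ^ p ^ 2 = 1 ∧ Par blk g ∧ Par blk g⁻¹} ≤
        ((Subgroup.closure {u : Γ | u ∈ Subgroup.normalizer (Rb : Set Γ) ∧ ∃ k : ℕ, orderOf u = p ^ k}).comap
          φ).map C.G.subtype := by
      refine (Subgroup.closure_le _).2 fun g hg => ?_
      exact ⟨⟨g, hg.1⟩, map_mem_closure hg.1 hg.2.1 (Fact.out : p.Prime) (hnorm g hg.1 hg.2.2.1 hg.2.2.2), rfl⟩
    obtain ⟨x, hx, he⟩ := key hcl
    rw [show (⟨d, hd⟩ : C.G) = x from Subtype.ext he.symm]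
    exact hx

end Quotient

theorem shortSL_pow (p : ℕ) [Fact p.Prime] [CharP K p] {i j : Fin n} (h : Short i j) (a : K) :
    shortSL C h a ^ p ^ 2 = 1 := by
  refine pow_p_sq p (shortSL_coe C h a) ?_
  simp only [Matrix.add_mul, Matrix.mul_add, single_mul_ite, h.ne.symm, h.ne_rev_left, h.moved, h.rev_ne.symm,
    h.neRev.symm, h.moved'.symm, if_false, add_zero, Matrix.zero_mul]

theorem longSL_pow (p : ℕ) [Fact p.Prime] [CharP K p] {i : Fin n} (h : i.rev ≠ i) (c : K) :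
    longSL h c ^ p ^ 2 = 1 := by
  refine pow_p_sq p (longSL_coe h c) ?_
  rw [single_mul_ne h, Matrix.zero_mul]

theorem midSL_pow (p : ℕ) [Fact p.Prime] [CharP K p] {i m : Fin n} (hi : i.rev ≠ i) (hm : m.rev = m) (a c : K) :
    midSL C hi hm a c ^ p ^ 2 = 1 := by
  obtain ⟨n1, n2⟩ := mid_ne hi hm
  refine pow_p_sq p (midSL_coe C hi hm a c) ?_
  simp only [Matrix.add_mul, Matrix.mul_add, single_mul_ite, n1, n1.symm, n2, n2.symm, hi, if_true, if_false,
    add_zero, zero_add, Matrix.zero_mul, Matrix.mul_zero]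

theorem par_one_add {blk : Fin n → ℕ} {x : SpecialLinearGroup (Fin n) K} {X : Matrix (Fin n) (Fin n) K}
    (e : ⇈x = 1 + X) (h : ∀ r l, blk l < blk r → X r l = 0) : Par blk x := fun r l hlr => by
  rw [e, Matrix.add_apply, Matrix.one_apply_ne (fun e => hlr.ne (congrArg blk e.symm)), h r l hlr, add_zero]

theorem par_short {blk : Fin n → ℕ} {i j : Fin n} (h : Short i j) (h1 : blk i ≤ blk j)
    (h2 : blk j.rev ≤ blk i.rev) (a : K) : Par blk (shortSL C h a) :=
  par_one_add (shortSL_coe C h a) fun r l hlr => by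
    rw [Matrix.add_apply, Matrix.single_apply, Matrix.single_apply, if_neg, if_neg, add_zero]
    · rintro ⟨rfl, rfl⟩; exact not_lt.2 h2 hlr
    · rintro ⟨rfl, rfl⟩; exact not_lt.2 h1 hlr

theorem par_long {blk : Fin n → ℕ} {i : Fin n} (h : i.rev ≠ i) (h1 : blk i ≤ blk i.rev) (c : K) :
    Par blk (longSL h c) :=
  par_one_add (longSL_coe h c) fun r l hlr => by
    rw [Matrix.single_apply, if_neg]
    rintro ⟨rfl, rfl⟩; exact not_lt.2 h1 hlr

theorem par_mid {blk : Fin n → ℕ} {i m : Fin n} (hi : i.rev ≠ i) (hm : m.rev = m) (h1 : blk i = blk m)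
    (h2 : blk i.rev = blk m) (a c : K) : Par blk (midSL C hi hm a c) :=
  par_one_add (midSL_coe C hi hm a c) fun r l hlr => by
    rw [Matrix.add_apply, Matrix.add_apply, Matrix.single_apply, Matrix.single_apply, Matrix.single_apply, if_neg,
      if_neg, if_neg, add_zero, add_zero]
    all_goals rintro ⟨rfl, rfl⟩; omega

/-- The block map of a short simple root. -/
def blkA (i j : Fin n) : Fin n → ℕ := fun r => if r = j then i else if r = i.rev then j.rev else r

/-- The block map of a long simple root. -/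
def blkL (i : Fin n) : Fin n → ℕ := fun r => if r = i.rev then i else r

/-- The block map of a middle simple root. -/
def blkM (i m : Fin n) : Fin n → ℕ := fun r => if r = i.rev ∨ r = m then i else r

theorem blkA_mono {i j : Fin n} (hji : (j : ℕ) = (i : ℕ) + 1) (hj : j < j.rev) : Monotone (blkA i j) := by
  intro r l h
  have := Fin.lt_def.1 hj
  have := Fin.le_def.1 h
  simp only [blkA, Fin.ext_iff, Fin.val_rev] at *
  split_ifs <;> omega

theorem blkL_mono {i : Fin n} (hji : (i.rev : ℕ) = (i : ℕ) + 1) : Monotone (blkL i) := by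
  intro r l h
  have := Fin.le_def.1 h
  simp only [blkL, Fin.ext_iff, Fin.val_rev] at *
  split_ifs <;> omega

theorem blkM_mono {i m : Fin n} (hm : m.rev = m) (hji : (m : ℕ) = (i : ℕ) + 1) : Monotone (blkM i m) := by
  intro r l h
  have := Fin.le_def.1 h
  have := congrArg Fin.val hm
  simp only [blkM, Fin.ext_iff, Fin.val_rev] at *
  split_ifs <;> omega

theorem centA {i j : Fin n} (h : Short i j) (hji : (j : ℕ) = (i : ℕ) + 1) (hj : j < j.rev) :
    ∀ u ∈ C.U, (∀ A ∈ Rad C (blkA i j) (blkA_mono hji hj), A * u = u * A) →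
      u ∈ Rad C (blkA i j) (blkA_mono hji hj) := by
  intro u hu hc
  have hij : i < j := Fin.lt_def.2 (by omega)
  obtain ⟨c, hc0, hcc⟩ := C.exists_skew
  have hA : longSL hj.ne' c ∈ Rad C (blkA i j) (blkA_mono hji hj) := by
    refine ⟨longSL_mem_U hj.ne' hj hcc, fun r l hne he => ?_⟩
    rw [longSL_coe, Matrix.add_apply, Matrix.one_apply_ne hne, Matrix.single_apply, if_neg, add_zero]
    rintro ⟨rfl, rfl⟩
    simp only [blkA, if_true, hj.ne', (Fin.rev_lt_rev.2 hij).ne, if_false] at he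
    have := Fin.lt_def.1 hj; omega
  have e := comm_entries (longSL_coe hj.ne' c) (hc _ hA) i j.rev
  rw [mul_single_apply', single_mul_apply', if_pos rfl, if_neg hij.ne, Matrix.sub_apply,
    Matrix.one_apply_ne hij.ne, sub_zero] at e
  have h1 : ⇈u i j = 0 := (mul_eq_zero.1 e).resolve_right hc0
  have h2 : ⇈u j.rev i.rev = 0 := by
    have hm := mirror (d := 1) hu (fun r s hrs hs => absurd hs (by have := Fin.lt_def.1 hrs; omega)) hij hji.le
    rw [h1, mul_zero, add_zero] at hm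
    rcases mul_eq_zero.1 hm with h | h
    · exact absurd (C.eps_sq j) (by rw [h]; simp)
    · rw [← C.invol (⇈u j.rev i.rev), h, map_zero]
  refine ⟨hu, fun r l hne he => ?_⟩
  rcases lt_or_gt_of_ne hne with hrl | hrl
  · have := Fin.lt_def.1 hrl
    have := Fin.lt_def.1 hj
    have : (r = i ∧ l = j) ∨ (r = j.rev ∧ l = i.rev) := by
      simp only [blkA, Fin.ext_iff, Fin.val_rev] at *
      split_ifs at he <;> omega
    rcases this with ⟨rfl, rfl⟩ | ⟨rfl, rfl⟩
    · exact h1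
    · exact h2
  · exact (mem_U.1 hu).1.1 r l hrl

theorem centL (hn : 4 ≤ n) {i : Fin n} (hji : (i.rev : ℕ) = (i : ℕ) + 1) :
    ∀ u ∈ C.U, (∀ A ∈ Rad C (blkL i) (blkL_mono hji), A * u = u * A) → u ∈ Rad C (blkL i) (blkL_mono hji) := by
  intro u hu hc
  have hi : i < i.rev := Fin.lt_def.2 (by omega)
  have hji' := hji
  rw [Fin.val_rev] at hji'
  have h0i : i0 hn < i := Fin.lt_def.2 (show 0 < (i : ℕ) by omega)
  have h := short_of_half h0i hi
  have hA : shortSL C h (1 : K) ∈ Rad C (blkL i) (blkL_mono hji) := by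
    refine ⟨shortSL_mem_U h h0i 1, fun r l hne he => ?_⟩
    rw [shortSL_coe, Matrix.add_apply, Matrix.one_apply_ne hne, Matrix.add_apply, Matrix.single_apply,
      Matrix.single_apply, if_neg, if_neg, add_zero, add_zero]
    all_goals
      rintro ⟨rfl, rfl⟩
      simp only [blkL, i0, Fin.ext_iff, Fin.val_rev] at *
      split_ifs at he <;> omega
  have e := comm_entries (shortSL_coe C h 1) (hc _ hA) (i0 hn) i.rev
  rw [Matrix.mul_add, Matrix.add_mul, Matrix.add_apply, Matrix.add_apply, mul_single_apply', mul_single_apply',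
    single_mul_apply', single_mul_apply', if_neg hi.ne', if_neg h.rev_ne, if_pos rfl, if_neg h.neRev,
    Matrix.sub_apply, Matrix.one_apply_ne hi.ne] at e
  have h1 : ⇈u i i.rev = 0 := by simpa using e.symm
  refine ⟨hu, fun r l hne he => ?_⟩
  rcases lt_or_gt_of_ne hne with hrl | hrl
  · have := Fin.lt_def.1 hrl
    have : r = i ∧ l = i.rev := by
      simp only [blkL, Fin.ext_iff, Fin.val_rev] at *
      split_ifs at he <;> omega
    rw [this.1, this.2]; exact h1
  · exact (mem_U.1 hu).1.1 r l hrl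

theorem centM (hn : 4 ≤ n) {i m : Fin n} (hm : m.rev = m) (hji : (m : ℕ) = (i : ℕ) + 1) :
    ∀ u ∈ C.U, (∀ A ∈ Rad C (blkM i m) (blkM_mono hm hji), A * u = u * A) →
      u ∈ Rad C (blkM i m) (blkM_mono hm hji) := by
  intro u hu hc
  have hmv := congrArg Fin.val hm
  rw [Fin.val_rev] at hmv
  have him : i < m := Fin.lt_def.2 (by omega)
  have hi : i < i.rev := him.trans (lt_rev_of_lt_mid hm him)
  have h0i : i0 hn < i := Fin.lt_def.2 (by simp only [i0, Fin.val_rev] at *; omega)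
  have h := short_of_half h0i hi
  have hA : shortSL C h (1 : K) ∈ Rad C (blkM i m) (blkM_mono hm hji) := by
    refine ⟨shortSL_mem_U h h0i 1, fun r l hne he => ?_⟩
    rw [shortSL_coe, Matrix.add_apply, Matrix.one_apply_ne hne, Matrix.add_apply, Matrix.single_apply,
      Matrix.single_apply, if_neg, if_neg, add_zero, add_zero]
    all_goals
      rintro ⟨rfl, rfl⟩
      simp only [blkM, i0, Fin.ext_iff, Fin.val_rev] at *
      split_ifs at he <;> omega
  have him' : i.rev ≠ i := hi.ne'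
  obtain ⟨n1, n2⟩ := mid_ne him' hm
  have n3 : m ≠ (i0 hn).rev := fun e => (h0i.trans him).ne' (Fin.rev_injective (by rw [hm, ← e]))
  have hz : ∀ s, s ≠ i → s ≠ (i0 hn).rev → ⇈u i s = 0 := by
    intro s hs1 hs2
    have e := comm_entries (shortSL_coe C h 1) (hc _ hA) (i0 hn) s
    rw [Matrix.mul_add, Matrix.add_mul, Matrix.add_apply, Matrix.add_apply, mul_single_apply', mul_single_apply',
      single_mul_apply', single_mul_apply', if_neg hs1, if_neg hs2, if_pos rfl, if_neg h.neRev,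
      Matrix.sub_apply, Matrix.one_apply_ne hs1.symm] at e
    simpa using e.symm
  have h1 := hz m n1 n3
  have h3 := hz i.rev him' h.rev_ne
  have h2 : ⇈u m i.rev = 0 := by
    have hr := mirror (d := 1) hu (fun r s hrs hs => absurd hs (by have := Fin.lt_def.1 hrs; omega)) him
      (by omega)
    rw [h1, hm, mul_zero, add_zero] at hr
    rcases mul_eq_zero.1 hr with h | h
    · exact absurd (C.eps_sq m) (by rw [h]; simp)
    · rw [← C.invol (⇈u m i.rev), h, map_zero]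
  refine ⟨hu, fun r l hne he => ?_⟩
  rcases lt_or_gt_of_ne hne with hrl | hrl
  · have := Fin.lt_def.1 hrl
    have : (r = i ∧ l = m) ∨ (r = i ∧ l = i.rev) ∨ (r = m ∧ l = i.rev) := by
      simp only [blkM, Fin.ext_iff, Fin.val_rev] at *
      split_ifs at he <;> omega
    rcases this with ⟨rfl, rfl⟩ | ⟨rfl, rfl⟩ | ⟨rfl, rfl⟩
    · exact h1
    · exact h3
    · exact h2
  · exact (mem_U.1 hu).1.1 r l hrl

section Main

variable {Γ : Type*} [Group Γ] [Finite Γ] {φ : C.G →* Γ} (hker : ∀ x : C.G, φ x = 1 → x ∈ Subgroup.center C.G)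
include hker

theorem normalizer_gen [Finite K] (p : ℕ) [Fact p.Prime] [CharP K p] (hn : 4 ≤ n) (hφ : Function.Surjective φ)
    (S₀ : Sylow p Γ) (hS₀ : (S₀ : Subgroup Γ) = uBar φ) :
    Subgroup.normalizer (uBar φ : Set Γ) ≤
      uBar φ ⊔ Subgroup.centralizer (uBar φ : Set Γ) ⊔ Subgroup.closure (GroupSub.radGens p (uBar φ)) := by
  set H := uBar φ ⊔ Subgroup.centralizer (uBar φ : Set Γ) ⊔ Subgroup.closure (GroupSub.radGens p (uBar φ)) with hH
  intro γ hγ
  obtain ⟨g, rfl⟩ := hφ γ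
  have hgU : ∀ u ∈ C.U, (g : SpecialLinearGroup (Fin n) K)⁻¹ * u * g.1 ∈ C.U := by
    intro u hu
    have hm : φ (g⁻¹ * ⟨u, U_le_G hu⟩ * g) ∈ uBar φ := by
      rw [map_mul, map_mul, map_inv]
      exact (Subgroup.mem_normalizer_iff''.1 hγ _).1 ⟨_, hu, rfl⟩
    obtain ⟨v, hv, hvz⟩ := hm
    set z : C.G := v⁻¹ * (g⁻¹ * ⟨u, U_le_G hu⟩ * g) with hzdef
    have hz : φ z = 1 := by rw [hzdef, map_mul, map_inv, hvz, inv_mul_cancel]
    have e : (g : SpecialLinearGroup (Fin n) K)⁻¹ * u * g.1 = v.1 * z.1 := by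
      have : g⁻¹ * ⟨u, U_le_G hu⟩ * g = v * z := by rw [hzdef, mul_inv_cancel_left]
      exact congrArg Subtype.val this
    obtain ⟨a, ha⟩ := isPGroup_U (C := C) p ⟨u, hu⟩
    obtain ⟨b, hb⟩ := isPGroup_U (C := C) p ⟨v.1, hv⟩
    have hua : u ^ p ^ a = 1 := congrArg Subtype.val ha
    have hvb : v.1 ^ p ^ b = 1 := congrArg Subtype.val hb
    have hz1 : z.1 = 1 := by
      refine ker_p_trivial hker p hn hz (k := a + b) ?_
      have h1 : ((g : SpecialLinearGroup (Fin n) K)⁻¹ * u * g.1) ^ p ^ (a + b) = 1 := by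
        rw [show (g : SpecialLinearGroup (Fin n) K)⁻¹ * u * g.1 = g.1⁻¹ * u * (g.1⁻¹)⁻¹ by rw [inv_inv], conj_pow,
          pow_add, pow_mul, hua, one_pow, mul_one, mul_inv_cancel]
      have hcomm : Commute v.1 z.1 := commute_of_ker hker hz v.2
      rw [e, hcomm.mul_pow, pow_add, mul_comm (p ^ a) (p ^ b), pow_mul v.1, hvb, one_pow, one_mul,
        mul_comm (p ^ b) (p ^ a), ← pow_add] at h1
      exact h1
    rw [e, hz1, mul_one]; exact hv
  have gen : ∀ {blk : Fin n → ℕ} (hm : Monotone blk),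
      (∀ u ∈ C.U, (∀ A ∈ Rad C blk hm, A * u = u * A) → u ∈ Rad C blk hm) →
      ∀ {d : SpecialLinearGroup (Fin n) K}, d ∈ C.G → (∃ v : Fin n → K, ⇈d = Matrix.diagonal v) →
      d ∈ Subgroup.closure {g | g ∈ C.G ∧ g ^ p ^ 2 = 1 ∧ Par blk g ∧ Par blk g⁻¹} →
      d ∈ (H.comap φ).map C.G.subtype := by
    intro blk hm hcent d hd hdiag hcl
    exact ⟨⟨d, hd⟩, Subgroup.mem_sup_right (mem_gen hker p hn S₀ hS₀ hm hcent hd hdiag hcl), rfl⟩
  have hmem : g.1 ∈ (H.comap φ).map C.G.subtype := by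
    refine triangular_le _ ?_ ?_ ?_ ?_ g.2 (triangular_of_normalizes hgU)
    · intro u hu
      exact ⟨⟨u, U_le_G hu⟩, Subgroup.mem_sup_left (Subgroup.mem_sup_left ⟨_, hu, rfl⟩), rfl⟩
    · intro i j h hji hj s hs
      refine gen (blkA_mono hji hj) (centA h hji hj)
        (C.G.mul_mem (wShort_mem h s) (C.G.inv_mem (wShort_mem h 1)))
        ⟨_, (wShort_mono h hs).div (wShort_mono h one_ne_zero)⟩ ?_
      have e1 : blkA i j j = (i : ℕ) := by simp [blkA]
      have e2 : blkA i j i = (i : ℕ) := by simp [blkA, h.ne, h.moved.symm]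
      have e3 : blkA i j i.rev = (j.rev : ℕ) := by simp [blkA, h.ne_rev_left.symm]
      have e4 : blkA i j j.rev = (j.rev : ℕ) := by simp [blkA, h.moved', h.rev_ne]
      have m1 : ∀ a : K, shortSL C h a ∈
          Subgroup.closure {g | g ∈ C.G ∧ g ^ p ^ 2 = 1 ∧ Par (blkA i j) g ∧ Par (blkA i j) g⁻¹} := by
        refine fun a => Subgroup.subset_closure ⟨shortSL_mem C h a, shortSL_pow p h a, ?_, ?_⟩
        · exact par_short h (by omega) (by omega) a
        · rw [shortSL_inv]; exact par_short h (by omega) (by omega) _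
      have m2 : ∀ a : K, shortSL C h.symm a ∈
          Subgroup.closure {g | g ∈ C.G ∧ g ^ p ^ 2 = 1 ∧ Par (blkA i j) g ∧ Par (blkA i j) g⁻¹} := by
        refine fun a => Subgroup.subset_closure ⟨shortSL_mem C _ a, shortSL_pow p _ a, ?_, ?_⟩
        · exact par_short h.symm (by omega) (by omega) a
        · rw [shortSL_inv]; exact par_short h.symm (by omega) (by omega) _
      simp only [wShort]
      exact mul_mem (mul_mem (mul_mem (m1 _) (m2 _)) (m1 _)) (inv_mem (mul_mem (mul_mem (m1 _) (m2 _)) (m1 _)))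
    · intro i hi hji c d hc0 hd0 hc hd
      refine gen (blkL_mono hji) (centL hn hji) (C.G.mul_mem (wLong_mem hi hc0 hc) (C.G.inv_mem (wLong_mem hi hd0 hd)))
        ⟨_, (wLong_mono hi hc0).div (wLong_mono hi hd0)⟩ ?_
      have e1 : blkL i i.rev = (i : ℕ) := by simp [blkL]
      have e2 : blkL i i = (i : ℕ) := by simp [blkL, hi.symm]
      have m1 : ∀ x : K, x + C.κ * C.σ x = 0 → longSL hi x ∈
          Subgroup.closure {g | g ∈ C.G ∧ g ^ p ^ 2 = 1 ∧ Par (blkL i) g ∧ Par (blkL i) g⁻¹} := by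
        refine fun x hx => Subgroup.subset_closure ⟨longSL_mem C hi hx, longSL_pow p hi x, ?_, ?_⟩
        · exact par_long hi (by omega) x
        · rw [longSL_inv]; exact par_long hi (by omega) _
      have m2 : ∀ x : K, x ≠ 0 → x + C.κ * C.σ x = 0 → SpecialLinearGroup.transvection hi (-x⁻¹) ∈
          Subgroup.closure {g | g ∈ C.G ∧ g ^ p ^ 2 = 1 ∧ Par (blkL i) g ∧ Par (blkL i) g⁻¹} := by
        intro x hx0 hx
        have e : ∀ y : K, ⇈(SpecialLinearGroup.transvection hi y : SpecialLinearGroup (Fin n) K) =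
            1 + single i.rev i y := fun y => rfl
        have hpar : ∀ y : K, Par (blkL i) (SpecialLinearGroup.transvection hi y : SpecialLinearGroup (Fin n) K) :=
          fun y => par_one_add (e y) fun r l hlr => by
            rw [Matrix.single_apply, if_neg]
            rintro ⟨rfl, rfl⟩; omega
        refine Subgroup.subset_closure ⟨long_rev_mem hi hx0 hx, pow_p_sq p (e _) ?_, hpar _, ?_⟩
        · rw [single_mul_ne hi.symm, Matrix.zero_mul]
        · have : (SpecialLinearGroup.transvection hi (-x⁻¹) : SpecialLinearGroup (Fin n) K)⁻¹ =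
              SpecialLinearGroup.transvection hi (x⁻¹) := inv_eq_of_mul_eq_one_right (by
            rw [← Matrix.SpecialLinearGroup.transvection_add, neg_add_cancel,
              Matrix.SpecialLinearGroup.transvection_coeff_zero])
          rw [this]; exact hpar _
      exact mul_mem (mul_mem (mul_mem (m1 c hc) (m2 c hc0 hc)) (m1 c hc))
        (inv_mem (mul_mem (mul_mem (m1 d hd) (m2 d hd0 hd)) (m1 d hd)))
    · intro i m hi hm hji a b a' b' hb hb' h h'
      refine gen (blkM_mono hm hji) (centM hn hm hji)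
        (C.G.mul_mem (wMid_mem hi hm hb h) (C.G.inv_mem (wMid_mem hi hm hb' h')))
        ⟨_, (wMid_mono hi hm hb h).div (wMid_mono hi hm hb' h')⟩ ?_
      obtain ⟨n1, n2⟩ := mid_ne hi hm
      have e1 : blkM i m i.rev = (i : ℕ) := by simp [blkM]
      have e2 : blkM i m m = (i : ℕ) := by simp [blkM]
      have e3 : blkM i m i = (i : ℕ) := by simp [blkM, hi.symm, n1.symm]
      have hi' : i.rev.rev ≠ i.rev := by rw [Fin.rev_rev]; exact hi.symm
      have e3' : blkM i m i.rev.rev = (i : ℕ) := by rw [Fin.rev_rev]; exact e3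
      have m1 : ∀ (j : Fin n) (hj : j.rev ≠ j), blkM i m j = i → blkM i m j.rev = i → ∀ x y : K,
          y + C.σ y + x * C.σ x = 0 → midSL C hj hm x y ∈
          Subgroup.closure {g | g ∈ C.G ∧ g ^ p ^ 2 = 1 ∧ Par (blkM i m) g ∧ Par (blkM i m) g⁻¹} := by
        refine fun j hj f1 f2 x y hxy =>
          Subgroup.subset_closure ⟨midSL_mem C hj hm hxy, midSL_pow p hj hm x y, ?_, ?_⟩
        · exact par_mid hj hm (by omega) (by omega) x y
        · rw [midSL_inv hj hm hxy]; exact par_mid hj hm (by omega) (by omega) _ _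
      have w : ∀ a b : K, b ≠ 0 → b + C.σ b + a * C.σ a = 0 → wMid C hi hm a b ∈
          Subgroup.closure {g | g ∈ C.G ∧ g ^ p ^ 2 = 1 ∧ Par (blkM i m) g ∧ Par (blkM i m) g⁻¹} := by
        intro a b hb h
        refine mul_mem (mul_mem (m1 i hi e3 e1 a b h) (m1 i.rev hi' e1 e3' _ _ ?_))
          (m1 i hi e3 e1 _ _ (wMid_param hb h))
        have := sigma_ne_zero (C := C) hb
        rw [map_inv₀, C.invol, map_neg, map_div₀]
        field_simp
        linear_combination h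
      exact mul_mem (w a b hb h) (inv_mem (w a' b' hb' h'))
  obtain ⟨x, hx, he⟩ := hmem
  rw [show g = x from Subtype.ext he.symm]
  exact hx

/-- The p-fusion system of a central quotient of the form group is simple. -/
theorem isSimple [Finite K] (p : ℕ) [Fact p.Prime] [CharP K p] (hn : 4 ≤ n)
    (hbig : (∀ x, C.σ x = x) → 6 ≤ n ∨ ∃ t : K, t ≠ 0 ∧ t ≠ 1) (hφ : Function.Surjective φ) (S : Sylow p Γ) :
    (Cfsg.groupFusionSystem (S : Subgroup Γ)).IsSimple p := by
  obtain ⟨P, hP⟩ := exists_sylow (C := C) p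
  have hcoe : ((P.mapSurjective hφ : Sylow p Γ) : Subgroup Γ) = uBar φ := by
    rw [Sylow.coe_mapSurjective, hP]
  refine GroupSub.isSimple_of_data (P.mapSurjective hφ) ?_ ?_ ?_ S
  all_goals rw [hcoe]
  · intro hbot
    obtain ⟨c, hc0, hc⟩ := C.exists_skew
    have hu := longSL_mem_U (C := C) (i0_lt_rev hn).ne' (i0_lt_rev hn) hc
    have h1 : φ ⟨_, U_le_G hu⟩ = 1 := Subgroup.mem_bot.1 (hbot ▸ ⟨⟨_, U_le_G hu⟩, hu, rfl⟩)
    have h2 := ker_p_trivial hker p hn h1 (k := 2) (longSL_pow p (i0_lt_rev hn).ne' c)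
    have h3 := congrArg (fun X : SpecialLinearGroup (Fin n) K => ⇈X (i0 hn) (i0 hn).rev) h2
    simp [longSL_coe, Matrix.one_apply_ne (i0_lt_rev hn).ne] at h3
    exact hc0 h3
  · exact fun T hT => strongly_closed hker p hn hbig T hT
  · exact normalizer_gen hker p hn hφ _ hcoe

end Main

end Cfsg.Agent.FormTri
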