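import Cfsg.Agent.FormTri.Simple
import Cfsg.Agent.Classical.SympGroup

/-!
The symplectic group as an antidiagonal form group.
-/

set_option autoImplicit false

namespace Cfsg.Agent.FormTri.Symp

open Matrix

variable (m : ℕ) (K : Type*) [Field K]

/-- The antidiagonal alternating form of dimension 2m. -/
def ctx : Ctx (m + m) K where
  σ := RingHom.id K
  κ := -1
  ε := fun r => if (r : ℕ) < m then -1 else 1
  invol := fun _ => rfl
  kap_sq := by ring
  kap_fix := rfl
  eps_sq := fun i => by split_ifs <;> ring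
  eps_fix := fun _ => rfl
  eps_rev := fun i => by
    have := i.2
    by_cases h : (i : ℕ) < m
    · rw [if_pos h, if_neg (by rw [Fin.val_rev]; omega)]; ring
    · rw [if_neg h, if_pos (by rw [Fin.val_rev]; omega)]; ring
  mid_kap := fun i h => by
    have := congrArg Fin.val h
    rw [Fin.val_rev] at this
    omega
  mid_eps := fun i h => by
    have := congrArg Fin.val h
    rw [Fin.val_rev] at this
    omega
  mid_norm := fun i h => by
    have := congrArg Fin.val h
    rw [Fin.val_rev] at this
    omega
  mid_trace := fun i h => by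
    have := congrArg Fin.val h
    rw [Fin.val_rev] at this
    omega
  exists_skew := ⟨1, one_ne_zero, by simp⟩

/-- The index bijection sending a symplectic pair to a pair of mirror indices. -/
def idx : Fin m ⊕ Fin m ≃ Fin (m + m) := (Equiv.sumCongr (Equiv.refl _) Fin.revPerm).trans finSumFinEquiv

theorem idx_inl (i : Fin m) : ((idx m (Sum.inl i) : Fin (m + m)) : ℕ) = i := by simp [idx]

theorem idx_inr (i : Fin m) : ((idx m (Sum.inr i) : Fin (m + m)) : ℕ) = m + (m - ((i : ℕ) + 1)) := by
  simp [idx, Fin.val_rev, add_comm]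

theorem J_eq : (ctx m K).J = (Matrix.J (Fin m) K).submatrix (idx m).symm (idx m).symm := by
  ext r s
  obtain ⟨a, rfl⟩ := (idx m).surjective r
  obtain ⟨b, rfl⟩ := (idx m).surjective s
  rw [J_apply, Matrix.submatrix_apply, Equiv.symm_apply_apply, Equiv.symm_apply_apply, Matrix.J]
  simp only [ctx]
  rcases a with a | a <;> rcases b with b | b
  all_goals
    have := a.2
    have := b.2
    simp only [Fin.ext_iff, Fin.val_rev, idx_inl, idx_inr, Matrix.fromBlocks_apply₁₁, Matrix.fromBlocks_apply₁₂,
      Matrix.fromBlocks_apply₂₁, Matrix.fromBlocks_apply₂₂, Matrix.zero_apply, Matrix.neg_apply, Matrix.one_apply]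
    split_ifs <;> first | rfl | omega | simp

variable {m K}

theorem det_eq_one (A : Matrix.symplecticGroup (Fin m) K) : (A : Matrix (Fin m ⊕ Fin m) (Fin m ⊕ Fin m) K).det = 1 := by
  let D : Matrix.symplecticGroup (Fin m) K →* K :=
    { toFun := fun A => (A : Matrix (Fin m ⊕ Fin m) (Fin m ⊕ Fin m) K).det
      map_one' := Matrix.det_one
      map_mul' := fun A B => Matrix.det_mul _ _ }
  have hA : A ∈ Subgroup.closure {A : Matrix.symplecticGroup (Fin m) K | ∃ (w : Fin m ⊕ Fin m → K) (c : K),
      (A : Matrix (Fin m ⊕ Fin m) (Fin m ⊕ Fin m) K) = Cfsg.sympTransvection m w c} := by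
    rw [Classical.closure_sympTransvection]; exact Subgroup.mem_top _
  show D A = 1
  have hle : {A : Matrix.symplecticGroup (Fin m) K | ∃ (w : Fin m ⊕ Fin m → K) (c : K),
      (A : Matrix (Fin m ⊕ Fin m) (Fin m ⊕ Fin m) K) = Cfsg.sympTransvection m w c} ⊆ (D.ker : Set _) := by
    rintro B ⟨w, c, hB⟩
    show (B : Matrix (Fin m ⊕ Fin m) (Fin m ⊕ Fin m) K).det = 1
    rw [hB, Cfsg.sympTransvection, ← Matrix.smul_vecMulVec, Matrix.vecMulVec_eq Unit,
      Matrix.det_one_add_replicateCol_mul_replicateRow]
    have : dotProduct (Matrix.J (Fin m) K *ᵥ w) w = 0 := by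
      rw [dotProduct_comm]
      show Cfsg.sympForm m K w w = 0
      rw [← Classical.sympB_apply]
      exact Classical.sympB_isAlt w
    rw [dotProduct_smul, this, smul_zero, add_zero]
  exact (Subgroup.closure_le D.ker).2 hle hA

/-- Reindexing of a symplectic matrix. -/
def toSL (A : Matrix.symplecticGroup (Fin m) K) : SpecialLinearGroup (Fin (m + m)) K :=
  ⟨(A : Matrix (Fin m ⊕ Fin m) (Fin m ⊕ Fin m) K).submatrix (idx m).symm (idx m).symm,
    (Matrix.det_submatrix_equiv_self _ _).trans (det_eq_one A)⟩

theorem toSL_coe (A : Matrix.symplecticGroup (Fin m) K) :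
    ((toSL A : SpecialLinearGroup (Fin (m + m)) K) : Matrix (Fin (m + m)) (Fin (m + m)) K) =
      (A : Matrix (Fin m ⊕ Fin m) (Fin m ⊕ Fin m) K).submatrix (idx m).symm (idx m).symm := rfl

theorem toSL_mem (A : Matrix.symplecticGroup (Fin m) K) : toSL A ∈ (ctx m K).G := by
  rw [mem_G, J_eq, toSL_coe, Matrix.transpose_submatrix, Matrix.submatrix_mul_equiv]
  show (((A.1)ᵀ * Matrix.J (Fin m) K).submatrix _ _) * ((A.1).submatrix _ _).map (RingHom.id K) = _
  rw [show (((A.1).submatrix (idx m).symm (idx m).symm).map (RingHom.id K)) =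
      (A.1).submatrix (idx m).symm (idx m).symm from Matrix.ext fun _ _ => rfl,
    Matrix.submatrix_mul_equiv, SymplecticGroup.mem_iff'.1 A.2]

/-- The symplectic group is the antidiagonal form group. -/
def toG : Matrix.symplecticGroup (Fin m) K →* (ctx m K).G :=
  MonoidHom.mk' (fun A => ⟨toSL A, toSL_mem A⟩) fun A B => Subtype.ext (Subtype.ext (by
    show (A.1 * B.1).submatrix (idx m).symm (idx m).symm = A.1.submatrix _ _ * B.1.submatrix _ _
    rw [Matrix.submatrix_mul_equiv]))

theorem toG_bijective : Function.Bijective (toG (m := m) (K := K)) := by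
  refine ⟨fun A B h => ?_, fun g => ?_⟩
  · refine Subtype.ext (Matrix.ext fun a b => ?_)
    have := congrArg (fun g : (ctx m K).G => g.1.1 (idx m a) (idx m b)) h
    simpa [toG, toSL] using this
  · set M := (g.1.1).submatrix (idx m) (idx m) with hM
    have hmem : M ∈ Matrix.symplecticGroup (Fin m) K := by
      rw [SymplecticGroup.mem_iff']
      have h := g.2
      rw [mem_G, J_eq] at h
      have h2 := congrArg (fun X : Matrix (Fin (m + m)) (Fin (m + m)) K => X.submatrix (idx m) (idx m)) h
      simp only [Matrix.submatrix_submatrix, Equiv.symm_comp_self, Matrix.submatrix_id_id] at h2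
      rw [show (g.1.1).map (ctx m K).σ = g.1.1 from Matrix.ext fun _ _ => rfl] at h2
      have e : Matrix.J (Fin m) K = ((Matrix.J (Fin m) K).submatrix (idx m).symm (idx m).symm).submatrix (idx m) (idx m) := by
        rw [Matrix.submatrix_submatrix, Equiv.symm_comp_self, Matrix.submatrix_id_id]
      conv_lhs => rw [e, hM, Matrix.transpose_submatrix, Matrix.submatrix_mul_equiv, Matrix.submatrix_mul_equiv]
      exact h2
    refine ⟨⟨M, hmem⟩, Subtype.ext (Subtype.ext ?_)⟩
    show M.submatrix _ _ = _
    rw [hM, Matrix.submatrix_submatrix, Equiv.self_comp_symm, Matrix.submatrix_id_id]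

end Cfsg.Agent.FormTri.Symp
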