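import Cfsg.Agent.FormTri.Calc

/-!
The unipotent group U of the antidiagonal form group: generated by positive root elements, with triangular
normalizer.
-/

set_option autoImplicit false

namespace Cfsg.Agent.FormTri

open Matrix

variable {n : ℕ} {K : Type*} [Field K]

/-- The underlying matrix. -/
local notation:max "⇈" A:max => ((A : SpecialLinearGroup (Fin n) K) : Matrix (Fin n) (Fin n) K)

variable (C : Ctx n K)

/-- The unipotent group of the form group. -/
def Ctx.U : Subgroup (SpecialLinearGroup (Fin n) K) := UniTri.unitri n K ⊓ C.G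

variable {C}

theorem U_le_G : C.U ≤ C.G := inf_le_right

theorem mem_U {g : SpecialLinearGroup (Fin n) K} :
    g ∈ C.U ↔ ((∀ r l : Fin n, l < r → ⇈g r l = 0) ∧ ∀ r, ⇈g r r = 1) ∧ g ∈ C.G :=
  and_congr_left' UniTri.mem_unitri

theorem rev_ne_of_lt {i j : Fin n} (h : i < j) (h' : j ≤ i.rev) : i.rev ≠ i := by
  have := Fin.lt_def.1 h
  have := Fin.le_def.1 h'
  intro e
  have e' : (i.rev : ℕ) = i := congrArg Fin.val e
  rw [Fin.val_rev] at *
  omega

theorem short_of_lt {i j : Fin n} (h : i < j) (h' : j < i.rev) (hm : j.rev ≠ j) : Short i j :=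
  ⟨h.ne, fun e => h'.ne (by rw [e, Fin.rev_rev]), rev_ne_of_lt h h'.le, hm⟩

theorem mem_unitri_one_add {g : SpecialLinearGroup (Fin n) K} {X : Matrix (Fin n) (Fin n) K} (hX : ⇈g = 1 + X)
    (h : ∀ r l, l ≤ r → X r l = 0) : g ∈ UniTri.unitri n K := by
  refine UniTri.mem_unitri.2 ⟨fun r l hlr => ?_, fun r => ?_⟩
  · rw [hX, Matrix.add_apply, Matrix.one_apply_ne hlr.ne', h r l hlr.le, add_zero]
  · rw [hX, Matrix.add_apply, Matrix.one_apply_eq, h r r le_rfl, add_zero]

theorem shortSL_mem_U {i j : Fin n} (h : Short i j) (hij : i < j) (a : K) : shortSL C h a ∈ C.U := by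
  refine ⟨mem_unitri_one_add (shortSL_coe C h a) fun r l hlr => ?_, shortSL_mem C h a⟩
  rw [Matrix.add_apply, Matrix.single_apply, Matrix.single_apply, if_neg, if_neg, add_zero]
  · rintro ⟨rfl, rfl⟩
    exact absurd (Fin.rev_lt_rev.2 hij) (not_lt.2 hlr)
  · rintro ⟨rfl, rfl⟩
    exact absurd hij (not_lt.2 hlr)

theorem longSL_mem_U {i : Fin n} (h : i.rev ≠ i) (hi : i < i.rev) {c : K} (hc : c + C.κ * C.σ c = 0) :
    longSL h c ∈ C.U := by
  refine ⟨mem_unitri_one_add (longSL_coe h c) fun r l hlr => ?_, longSL_mem C h hc⟩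
  rw [Matrix.single_apply, if_neg]
  rintro ⟨rfl, rfl⟩
  exact absurd hi (not_lt.2 hlr)

theorem lt_rev_of_lt_mid {i m : Fin n} (hm : m.rev = m) (him : i < m) : m < i.rev := by
  have := Fin.rev_lt_rev.2 him
  rwa [hm] at this

theorem midSL_mem_U {i m : Fin n} (hi : i.rev ≠ i) (hm : m.rev = m) (him : i < m) {a c : K}
    (hc : c + C.σ c + a * C.σ a = 0) : midSL C hi hm a c ∈ C.U := by
  have h2 := lt_rev_of_lt_mid hm him
  refine ⟨mem_unitri_one_add (midSL_coe C hi hm a c) fun r l hlr => ?_, midSL_mem C hi hm hc⟩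
  rw [Matrix.add_apply, Matrix.add_apply, Matrix.single_apply, Matrix.single_apply, Matrix.single_apply,
    if_neg, if_neg, if_neg, add_zero, add_zero]
  · rintro ⟨rfl, rfl⟩
    exact absurd (him.trans h2) (not_lt.2 hlr)
  · rintro ⟨rfl, rfl⟩
    exact absurd h2 (not_lt.2 hlr)
  · rintro ⟨rfl, rfl⟩
    exact absurd him (not_lt.2 hlr)

/-- Entries closer to the diagonal than `d` vanish. -/
def Deep (d : ℕ) (g : SpecialLinearGroup (Fin n) K) : Prop :=
  ∀ r l : Fin n, r < l → (l : ℕ) < (r : ℕ) + d → ⇈g r l = 0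

theorem entry_mul_deep {d : ℕ} {x u : SpecialLinearGroup (Fin n) K} (hx : x ∈ C.U) (hu : u ∈ C.U)
    (dx : Deep d x) {r l : Fin n} (hrl : r < l) (hl : (l : ℕ) ≤ (r : ℕ) + d) :
    ⇈(x * u) r l = ⇈x r l + ⇈u r l := by
  obtain ⟨⟨xU, xD⟩, -⟩ := mem_U.1 hx
  obtain ⟨⟨uU, uD⟩, -⟩ := mem_U.1 hu
  rw [coe_mul', Matrix.mul_apply, Finset.sum_eq_add r l hrl.ne]
  · rw [xD, uD, one_mul, mul_one, add_comm]
  · intro s _ hs
    rcases lt_trichotomy s r with h | h | h
    · rw [xU r s h, zero_mul]
    · exact absurd h hs.1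
    · rcases lt_trichotomy s l with h' | h' | h'
      · rw [dx r s h (lt_of_lt_of_le (Fin.lt_def.1 h') hl), zero_mul]
      · exact absurd h' hs.2
      · rw [uU s l h', mul_zero]
  · simp
  · simp

/-- The mirror relation at the lowest non-zero level. -/
theorem mirror {d : ℕ} {u : SpecialLinearGroup (Fin n) K} (hu : u ∈ C.U) (du : Deep d u) {r l : Fin n}
    (hrl : r < l) (hl : (l : ℕ) ≤ (r : ℕ) + d) :
    C.ε l * C.σ (⇈u l.rev r.rev) + C.ε r * ⇈u r l = 0 := by
  obtain ⟨⟨uU, uD⟩, hG⟩ := mem_U.1 hu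
  have h := sum_eq C hG l r.rev
  rw [if_neg (fun e => hrl.ne (Fin.rev_injective e)), Finset.sum_eq_add r l hrl.ne] at h
  · simp only [uD, map_one, mul_one] at h
    linear_combination h
  · intro s _ hs
    rcases lt_trichotomy s r with h' | h' | h'
    · rw [uU s.rev r.rev (Fin.rev_lt_rev.2 h'), map_zero, mul_zero]
    · exact absurd h' hs.1
    · rcases lt_trichotomy s l with h'' | h'' | h''
      · rw [du s l h'' (lt_of_le_of_lt hl (by have := Fin.lt_def.1 h'; omega)), mul_zero, zero_mul]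
      · exact absurd h'' hs.2
      · rw [uU s l h'', mul_zero, zero_mul]
  · simp
  · simp

theorem long_param {c : K} {r : Fin n} (h : C.ε r.rev * C.σ c + C.ε r * c = 0) : c + C.κ * C.σ c = 0 := by
  rw [C.eps_rev] at h
  linear_combination C.ε r * h + (-(c + C.κ * C.σ c)) * C.eps_sq r

/-- Positive root elements of the form group. -/
inductive Root (C : Ctx n K) : SpecialLinearGroup (Fin n) K → Prop
  | short {i j : Fin n} (h : Short i j) (hij : i < j) (hj : j < i.rev) (a : K) : Root C (shortSL C h a)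
  | long {i : Fin n} (h : i.rev ≠ i) (hi : i < i.rev) (c : K) (hc : c + C.κ * C.σ c = 0) : Root C (longSL h c)
  | mid {i m : Fin n} (hi : i.rev ≠ i) (hm : m.rev = m) (him : i < m) (a c : K)
      (hc : c + C.σ c + a * C.σ a = 0) : Root C (midSL C hi hm a c)

theorem Root.mem_U {g : SpecialLinearGroup (Fin n) K} (h : Root C g) : g ∈ C.U := by
  cases h with
  | short h hij hj a => exact shortSL_mem_U h hij a
  | long h hi c hc => exact longSL_mem_U h hi hc
  | mid hi hm him a c hc => exact midSL_mem_U hi hm him hc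

/-- For a position on or above the antidiagonal there is a root element with prescribed entry there, given an
element of U with that entry at its lowest level. -/
theorem exists_root {d : ℕ} {u : SpecialLinearGroup (Fin n) K} (hu : u ∈ C.U) (du : Deep d u) {k l : Fin n}
    (hkl : k < l) (hl : (l : ℕ) = (k : ℕ) + d) (hle : l ≤ k.rev) :
    ∃ x, Root C x ∧ Deep d x ∧ ⇈x k l = ⇈u k l ∧
      ∀ r s : Fin n, r < k → r < s → (s : ℕ) = (r : ℕ) + d → ⇈x r s = 0 := by
  have hk := rev_ne_of_lt hkl hle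
  rcases eq_or_lt_of_le hle with he | hlt
  · subst he
    refine ⟨_, Root.long hk hkl _ (long_param (r := k) (by
      simpa [Fin.rev_rev] using mirror hu du hkl hl.le)), fun r s hrs hs => ?_, ?_, fun r s hr _ _ => ?_⟩
    · rw [longSL_coe, Matrix.add_apply, Matrix.one_apply_ne hrs.ne, Matrix.single_apply, if_neg, add_zero]
      rintro ⟨rfl, rfl⟩; omega
    · rw [longSL_coe, Matrix.add_apply, Matrix.one_apply_ne hkl.ne]; simp
    · rw [longSL_coe, Matrix.add_apply, Matrix.single_apply, if_neg (fun e => hr.ne e.1.symm),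
        Matrix.one_apply_ne (by rintro rfl; exact lt_irrefl _ ‹r < r›), add_zero]
  by_cases hm : l.rev = l
  · obtain ⟨c, hc⟩ := C.mid_trace l hm (-(⇈u k l * C.σ (⇈u k l))) (by rw [map_neg, map_mul, C.invol, mul_comm])
    have h2 := lt_rev_of_lt_mid hm hkl
    refine ⟨_, Root.mid hk hm hkl (⇈u k l) c (by linear_combination hc), fun r s hrs hs => ?_, ?_,
      fun r s hr hrs hs => ?_⟩
    · rw [midSL_coe, Matrix.add_apply, Matrix.one_apply_ne hrs.ne, Matrix.add_apply, Matrix.add_apply,
        Matrix.single_apply, Matrix.single_apply, Matrix.single_apply, if_neg, if_neg, if_neg]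
      · simp
      · rintro ⟨rfl, rfl⟩
        have := Fin.lt_def.1 h2; omega
      · rintro ⟨rfl, rfl⟩
        have e := congrArg Fin.val hm
        have := k.2
        rw [Fin.val_rev] at *; omega
      · rintro ⟨rfl, rfl⟩; omega
    · rw [midSL_coe, Matrix.add_apply, Matrix.one_apply_ne hkl.ne]
      simp [h2.ne, h2.ne', hkl.ne, hkl.ne']
    · rw [midSL_coe, Matrix.add_apply, Matrix.one_apply_ne hrs.ne, Matrix.add_apply, Matrix.add_apply,
        Matrix.single_apply, Matrix.single_apply, Matrix.single_apply, if_neg, if_neg, if_neg]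
      · simp
      · exact fun e => hr.ne e.1.symm
      · exact fun e => (hr.trans hkl).ne e.1.symm
      · exact fun e => hr.ne e.1.symm
  · have h := short_of_lt hkl hlt hm
    have h2 : k < l.rev := by
      have := Fin.rev_lt_rev.2 hlt
      rwa [Fin.rev_rev] at this
    refine ⟨_, Root.short h hkl hlt (⇈u k l), fun r s hrs hs => ?_, ?_, fun r s hr hrs hs => ?_⟩
    · rw [shortSL_coe, Matrix.add_apply, Matrix.one_apply_ne hrs.ne, Matrix.add_apply,
        Matrix.single_apply, Matrix.single_apply, if_neg, if_neg]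
      · simp
      · rintro ⟨rfl, rfl⟩
        have := l.2; have := k.2
        rw [Fin.val_rev, Fin.val_rev] at hs; omega
      · rintro ⟨rfl, rfl⟩; omega
    · rw [shortSL_coe, Matrix.add_apply, Matrix.one_apply_ne hkl.ne]
      simp [h2.ne, h2.ne']
    · rw [shortSL_coe, Matrix.add_apply, Matrix.one_apply_ne hrs.ne, Matrix.add_apply,
        Matrix.single_apply, Matrix.single_apply, if_neg, if_neg]
      · simp
      · exact fun e => (hr.trans h2).ne e.1.symm
      · exact fun e => hr.ne e.1.symm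

theorem inv_mul_entry {d : ℕ} {x u : SpecialLinearGroup (Fin n) K} (hx : x ∈ C.U) (hu : u ∈ C.U)
    (dx : Deep d x) {r l : Fin n} (hrl : r < l) (hl : (l : ℕ) ≤ (r : ℕ) + d) :
    ⇈(x⁻¹ * u) r l = ⇈u r l - ⇈x r l := by
  have := entry_mul_deep hx (C.U.mul_mem (C.U.inv_mem hx) hu) dx hrl hl
  rw [mul_inv_cancel_left] at this
  linear_combination -this

theorem deep_inv_mul {d : ℕ} {x u : SpecialLinearGroup (Fin n) K} (hx : x ∈ C.U) (hu : u ∈ C.U)
    (dx : Deep d x) (du : Deep d u) : Deep d (x⁻¹ * u) := fun r l hrl hl => by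
  rw [inv_mul_entry hx hu dx hrl hl.le, du r l hrl hl, dx r l hrl hl, sub_self]

/-- U is generated by the positive root elements. -/
theorem U_le {H : Subgroup (SpecialLinearGroup (Fin n) K)} (hH : ∀ x, Root C x → x ∈ H) : C.U ≤ H := by
  intro u hu
  suffices key : ∀ e d : ℕ, e + d = n → ∀ u ∈ C.U, Deep d u → u ∈ H from
    key n 0 (add_zero n) u hu fun r l h h' => absurd h' (by have := Fin.lt_def.1 h; omega)
  intro e
  induction e with
  | zero =>
    intro d hd u hu du
    obtain ⟨⟨uU, uD⟩, -⟩ := mem_U.1 hu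
    have : u = 1 := UniTri.sl_ext fun r l => by
      rcases lt_trichotomy r l with h | h | h
      · rw [du r l h (by have := l.2; omega)]
        simp [Matrix.one_apply_ne h.ne]
      · subst h; simp [uD]
      · rw [uU r l h]; simp [Matrix.one_apply_ne h.ne']
    rw [this]; exact H.one_mem
  | succ e ih =>
    intro d hd
    suffices inner : ∀ f k : ℕ, f + k = n → ∀ u ∈ C.U, Deep d u →
        (∀ r l : Fin n, (r : ℕ) < k → r < l → (l : ℕ) = (r : ℕ) + d → ⇈u r l = 0) → u ∈ H from
      fun u hu du => inner n 0 (add_zero n) u hu du fun r l h => absurd h (by omega)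
    intro f
    induction f with
    | zero =>
      intro k hk u hu du hz
      refine ih (d + 1) (by omega) u hu fun r l hrl hl => ?_
      rcases eq_or_lt_of_le (show (l : ℕ) ≤ (r : ℕ) + d by omega) with h | h
      · exact hz r l (by have := r.2; omega) hrl h
      · exact du r l hrl h
    | succ f ihf =>
      intro k hk u hu du hz
      have step : (∀ r l : Fin n, (r : ℕ) = k → r < l → (l : ℕ) = (r : ℕ) + d → ⇈u r l = 0) → u ∈ H := by
        intro h0
        refine ihf (k + 1) (by omega) u hu du fun r l hr hrl hl => ?_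
        rcases eq_or_lt_of_le (show (r : ℕ) ≤ k by omega) with h | h
        · exact h0 r l h hrl hl
        · exact hz r l h hrl hl
      by_cases hd0 : 0 < d ∧ k + d < n
      swap
      · refine step fun r l hr hrl hl => absurd ⟨?_, ?_⟩ hd0
        · have := Fin.lt_def.1 hrl; omega
        · have := l.2; omega
      let kk : Fin n := ⟨k, by omega⟩
      let ll : Fin n := ⟨k + d, hd0.2⟩
      have hkl : kk < ll := Fin.lt_def.2 (show k < k + d by omega)
      by_cases hle : ll ≤ kk.rev
      · obtain ⟨x, hx, dx, hxv, hxz⟩ := exists_root hu du hkl rfl hle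
        have key : x⁻¹ * u ∈ H := by
          refine ihf (k + 1) (by omega) _ (C.U.mul_mem (C.U.inv_mem hx.mem_U) hu)
            (deep_inv_mul hx.mem_U hu dx du) fun r l hr hrl hl => ?_
          rw [inv_mul_entry hx.mem_U hu dx hrl hl.le]
          rcases eq_or_lt_of_le (show (r : ℕ) ≤ k by omega) with h | h
          · rw [show r = kk from Fin.ext h, show l = ll from Fin.ext (show (l : ℕ) = k + d by omega), hxv, sub_self]
          · rw [hz r l h hrl hl, hxz r l (Fin.lt_def.2 h) hrl hl, sub_self]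
        have := H.mul_mem (hH x hx) key
        rwa [mul_inv_cancel_left] at this
      · refine step fun r l hr hrl hl => ?_
        rw [show r = kk from Fin.ext hr, show l = ll from Fin.ext (show (l : ℕ) = k + d by omega)]
        have hm := mirror hu du hkl (show k + d ≤ k + d from le_rfl)
        have hlt : (ll.rev : ℕ) < k := by
          have := Fin.lt_def.1 (not_le.1 hle)
          simp only [Fin.val_rev, kk, ll] at this ⊢
          omega
        rw [hz ll.rev kk.rev hlt (Fin.rev_lt_rev.2 hkl) (by simp only [Fin.val_rev, kk, ll]; omega), map_zero,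
          mul_zero, zero_add] at hm
        rcases mul_eq_zero.1 hm with h | h
        · exact absurd (C.eps_sq kk) (by rw [h]; simp)
        · exact h

/-- For each adjacent position, U has an element with non-zero entry there. -/
theorem exists_super {k l : Fin n} (hl : (l : ℕ) = (k : ℕ) + 1) : ∃ u ∈ C.U, ⇈u k l ≠ 0 := by
  have hkl : k < l := Fin.lt_def.2 (by omega)
  have base : ∀ k l : Fin n, (l : ℕ) = (k : ℕ) + 1 → l ≤ k.rev → ∃ u ∈ C.U, ⇈u k l ≠ 0 := by
    intro k l hl hle
    have hkl : k < l := Fin.lt_def.2 (by omega)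
    have hk := rev_ne_of_lt hkl hle
    rcases eq_or_lt_of_le hle with he | hlt
    · subst he
      obtain ⟨c, hc0, hc⟩ := C.exists_skew
      refine ⟨_, longSL_mem_U hk hkl hc, ?_⟩
      rw [longSL_coe, Matrix.add_apply, Matrix.one_apply_ne hkl.ne]
      simpa using hc0
    by_cases hm : l.rev = l
    · obtain ⟨c, hc⟩ := C.mid_trace l hm (-1) (by rw [map_neg, map_one])
      have h2 := lt_rev_of_lt_mid hm hkl
      refine ⟨_, midSL_mem_U hk hm hkl (a := 1) (c := c) (by rw [map_one]; linear_combination hc), ?_⟩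
      rw [midSL_coe, Matrix.add_apply, Matrix.one_apply_ne hkl.ne]
      simp [h2.ne, h2.ne', hkl.ne, hkl.ne']
    · have h := short_of_lt hkl hlt hm
      refine ⟨_, shortSL_mem_U h hkl 1, ?_⟩
      rw [shortSL_coe, Matrix.add_apply, Matrix.one_apply_ne hkl.ne]
      simp [Ne.symm h.neRev]
  by_cases hle : l ≤ k.rev
  · exact base k l hl hle
  obtain ⟨u, hu, hne⟩ := base l.rev k.rev (by simp only [Fin.val_rev]; have := l.2; omega)
    (by
      rw [Fin.rev_rev]
      have := Fin.lt_def.1 (not_le.1 hle)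
      rw [Fin.le_def, Fin.val_rev]
      rw [Fin.val_rev] at this
      omega)
  refine ⟨u, hu, fun h0 => hne ?_⟩
  have hm := mirror (d := 1) hu (fun r s hrs hs => absurd hs (by have := Fin.lt_def.1 hrs; omega)) hkl hl.le
  rw [h0, mul_zero, add_zero] at hm
  rcases mul_eq_zero.1 hm with h | h
  · exact absurd (C.eps_sq l) (by rw [h]; simp)
  · rw [← C.invol (⇈u l.rev k.rev), h, map_zero]

/-- Elements normalizing U are upper triangular. -/
theorem triangular_of_normalizes {g : SpecialLinearGroup (Fin n) K}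
    (hg : ∀ u ∈ C.U, g⁻¹ * u * g ∈ C.U) : ∀ r j : Fin n, j < r → ⇈g r j = 0 := by
  suffices key : ∀ m : ℕ, ∀ r j : Fin n, (j : ℕ) = m → j < r → ⇈g r j = 0 from
    fun r j h => key j r j rfl h
  intro m
  induction m using Nat.strong_induction_on with
  | _ m ih =>
    intro r j hj hjr
    by_contra hne
    classical
    obtain ⟨l, hl, hmax⟩ := (Finset.univ.filter fun s : Fin n => j < s ∧ ⇈g s j ≠ 0).exists_max_image id
      ⟨r, by simp [hjr, hne]⟩
    obtain ⟨hjl, hlne⟩ := (Finset.mem_filter.1 hl).2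
    have hl1 : (l : ℕ) - 1 < n := by omega
    let k : Fin n := ⟨(l : ℕ) - 1, hl1⟩
    have hlk : (l : ℕ) = (k : ℕ) + 1 := by
      have := Fin.lt_def.1 hjl
      simp only [k]; omega
    have hjk : j ≤ k := Fin.le_def.2 (by have := Fin.lt_def.1 hjl; omega)
    obtain ⟨u, hu, hune⟩ := exists_super (C := C) hlk
    obtain ⟨⟨uU, uD⟩, -⟩ := mem_U.1 hu
    obtain ⟨⟨wU, wD⟩, -⟩ := mem_U.1 (hg u hu)
    have e1 : ⇈(u * g) k j = ⇈g k j := by
      rw [show u * g = g * (g⁻¹ * u * g) by group, coe_mul', Matrix.mul_apply, Finset.sum_eq_single j]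
      · rw [wD, mul_one]
      · intro s _ hs
        rcases lt_or_gt_of_ne hs with h | h
        · rw [ih s (hj ▸ Fin.lt_def.1 h) k s rfl (lt_of_lt_of_le h hjk), zero_mul]
        · rw [wU s j h, mul_zero]
      · simp
    have hkl : k < l := Fin.lt_def.2 (by omega)
    rw [coe_mul', Matrix.mul_apply, Finset.sum_eq_add k l hkl.ne, uD, one_mul] at e1
    · rcases mul_eq_zero.1 (by linear_combination e1 : ⇈u k l * ⇈g l j = 0) with h | h
      · exact hune h
      · exact hlne h
    · intro s _ hs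
      rcases lt_or_gt_of_ne hs.1 with h | h
      · rw [uU k s h, zero_mul]
      · have h' : l < s := lt_of_le_of_ne (Fin.le_def.2 (by have := Fin.lt_def.1 h; omega)) (Ne.symm hs.2)
        by_cases h0 : ⇈g s j = 0
        · rw [h0, mul_zero]
        · exact absurd (hmax s (Finset.mem_filter.2 ⟨Finset.mem_univ _, hjl.trans h', h0⟩)) (not_le.2 h')
    · simp
    · simp

/-- Diagonal entries of a product of upper triangular elements. -/
theorem diag_mul {A B : SpecialLinearGroup (Fin n) K} (hA : ∀ r l : Fin n, l < r → ⇈A r l = 0)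
    (hB : ∀ r l : Fin n, l < r → ⇈B r l = 0) (i : Fin n) : ⇈(A * B) i i = ⇈A i i * ⇈B i i := by
  rw [coe_mul', Matrix.mul_apply, Finset.sum_eq_single i]
  · intro s _ hs
    rcases lt_or_gt_of_ne hs with h | h
    · rw [hA i s h, zero_mul]
    · rw [hB s i h, mul_zero]
  · simp

/-- Mirror relation of the diagonal of a triangular group element. -/
theorem diag_mirror {g : SpecialLinearGroup (Fin n) K} (hg : g ∈ C.G)
    (hT : ∀ r l : Fin n, l < r → ⇈g r l = 0) (a : Fin n) : ⇈g a a * C.σ (⇈g a.rev a.rev) = 1 := by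
  have h := sum_eq C hg a a.rev
  rw [if_pos rfl, Finset.sum_eq_single a] at h
  · linear_combination C.ε a * h + (1 - ⇈g a a * C.σ (⇈g a.rev a.rev)) * C.eps_sq a
  · intro s _ hs
    rcases lt_or_gt_of_ne hs with h' | h'
    · rw [hT s.rev a.rev (Fin.rev_lt_rev.2 h'), map_zero, mul_zero]
    · rw [hT s a h', mul_zero, zero_mul]
  · simp

theorem isPGroup_U (p : ℕ) [Fact p.Prime] [CharP K p] : IsPGroup p C.U :=
  (UniTri.isPGroup_unitri (n := n) (K := K) p).to_le inf_le_left

/-- A triangular element of p-power order of the form group lies in U. -/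
theorem mem_U_of_triangular (p : ℕ) [Fact p.Prime] [CharP K p] {g : SpecialLinearGroup (Fin n) K} (hg : g ∈ C.G)
    (hT : ∀ r l : Fin n, l < r → ⇈g r l = 0) {k : ℕ} (hk : g ^ p ^ k = 1) : g ∈ C.U := by
  refine mem_U.2 ⟨⟨hT, fun i => ?_⟩, hg⟩
  have hpow : ∀ m : ℕ, (∀ r l : Fin n, l < r → ⇈(g ^ m) r l = 0) ∧ ⇈(g ^ m) i i = ⇈g i i ^ m := by
    intro m
    induction m with
    | zero => exact ⟨fun r l h => by simp [Matrix.one_apply_ne h.ne'], by simp⟩
    | succ m ih =>
      refine ⟨fun r l h => ?_, by rw [pow_succ, diag_mul ih.1 hT, ih.2, pow_succ]⟩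
      rw [pow_succ, coe_mul', Matrix.mul_apply]
      refine Finset.sum_eq_zero fun s _ => ?_
      rcases lt_or_ge s r with h' | h'
      · rw [ih.1 r s h', zero_mul]
      · rw [hT s l (lt_of_lt_of_le h h'), mul_zero]
  have h1 := (hpow (p ^ k)).2
  rw [hk] at h1
  have h2 : (⇈g i i - 1) ^ p ^ k = 0 := by
    rw [sub_pow_char_pow, ← h1]; simp
  exact sub_eq_zero.1 (eq_zero_of_pow_eq_zero h2)

/-- U is a Sylow p-subgroup of the form group. -/
theorem exists_sylow [Finite K] (p : ℕ) [Fact p.Prime] [CharP K p] :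
    ∃ P : Sylow p C.G, (P : Subgroup C.G) = C.U.subgroupOf C.G := by
  have hp : IsPGroup p (C.U.subgroupOf C.G) :=
    (isPGroup_U p).of_equiv (Subgroup.subgroupOfEquivOfLe U_le_G).symm
  obtain ⟨P, hP⟩ := hp.exists_le_sylow
  refine ⟨P, le_antisymm ?_ hP⟩
  by_contra hle
  haveI := P.isPGroup'.isNilpotent
  have hlt : (C.U.subgroupOf C.G).subgroupOf (P : Subgroup C.G) < ⊤ := by
    rw [lt_top_iff_ne_top, Ne, Subgroup.subgroupOf_eq_top]; exact hle
  obtain ⟨x, hx, hxU⟩ := SetLike.exists_of_lt (Group.normalizerCondition_of_isNilpotent _ hlt)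
  rw [← Subgroup.subgroupOf_normalizer_eq hP] at hx
  apply hxU
  obtain ⟨k, hk⟩ := P.isPGroup' x
  refine mem_U_of_triangular p (x : C.G).2 (triangular_of_normalizes (C := C) fun u hu => ?_) (k := k)
    (congrArg Subtype.val (congrArg Subtype.val hk))
  exact (Subgroup.mem_normalizer_iff''.1 hx ⟨u, hu.2⟩).1 hu

end Cfsg.Agent.FormTri
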