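import Cfsg.Agent.FormTri.Simple
import Cfsg.Agent.Classical.HermGroup

/-!
The special unitary group of the standard Hermitian form as an antidiagonal form group.
-/

set_option autoImplicit false

namespace Cfsg.Agent.FormTri.Unitary

open Matrix Cfsg.Agent.Classical Cfsg.Agent.Classical.Herm

variable (n : ℕ) {F : Type*} [Field F] [Finite F] {σ : F →+* F}

/-- The antidiagonal Hermitian form. -/
def ctx (h : IsInvol σ) : Ctx n F where
  σ := σ
  κ := 1
  ε := fun _ => 1
  invol := h.invol
  kap_sq := one_mul 1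
  kap_fix := map_one σ
  eps_sq := fun _ => one_mul 1
  eps_fix := fun _ => map_one σ
  eps_rev := fun _ => (one_mul 1).symm
  mid_kap := fun _ _ => rfl
  mid_eps := fun _ _ _ => rfl
  mid_norm := fun _ _ _ ht => Herm.exists_norm h ht
  mid_trace := fun _ _ _ ht => Herm.exists_trace h ht
  exists_skew := by
    obtain ⟨k, hk, hs⟩ := Herm.exists_skew h
    exact ⟨k, hk, by rw [hs]; ring⟩

/-- The antidiagonal Hermitian form as a semilinear map. -/
def antiB (σ : F →+* F) : (Fin n → F) →ₛₗ[σ] (Fin n → F) →ₗ[F] F :=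
  LinearMap.mk₂'ₛₗ σ (RingHom.id F) (fun u v => ∑ r, σ (u r) * v r.rev)
    (fun u u' v => by simp [add_mul, Finset.sum_add_distrib])
    (fun c u v => by simp [Finset.mul_sum, mul_assoc])
    (fun u v v' => by simp [mul_add, Finset.sum_add_distrib])
    (fun c u v => by simp [Finset.mul_sum, mul_left_comm])

omit [Finite F] in
theorem antiB_apply (u v : Fin n → F) : antiB n σ u v = ∑ r, σ (u r) * v r.rev := rfl

omit [Finite F] in
theorem antiB_isHerm (h : IsInvol σ) : IsHerm (antiB n σ) where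
  toIsInvol := h
  symm x y := by
    rw [antiB_apply, antiB_apply, map_sum]
    refine Fintype.sum_equiv Fin.revPerm _ _ fun r => ?_
    rw [map_mul, h.invol, Fin.revPerm_apply, Fin.rev_rev, mul_comm]
  nondeg x hx := by
    funext r
    have e := hx (Pi.single r.rev 1)
    rw [antiB_apply, Finset.sum_eq_single r] at e
    · rw [Pi.single_eq_same, mul_one] at e
      rw [← h.invol (x r), e, map_zero]; rfl
    · intro s _ hs
      rw [Pi.single_eq_of_ne (fun e => hs (Fin.rev_injective e)), mul_zero]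
    · simp

/-- Change of basis from the standard to the antidiagonal form. -/
theorem exists_basis (h : IsInvol σ) :
    ∃ P : GL (Fin n) F, (P : Matrix (Fin n) (Fin n) F)ᵀ * (ctx n h).J * (P : Matrix (Fin n) (Fin n) F).map σ = 1 := by
  obtain ⟨b, hb⟩ := exists_orthonormal (antiB_isHerm n h)
  have hn : Module.finrank F (Fin n → F) = n := by simp
  let M : Matrix (Fin n) (Fin n) F := Matrix.of fun r i => b (Fin.cast hn.symm i) r
  have hM : Mᵀ * (ctx n h).J * M.map σ = 1 := by
    ext i j
    have e := congrArg σ (hb (Fin.cast hn.symm i) (Fin.cast hn.symm j))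
    rw [antiB_apply, map_sum] at e
    rw [Matrix.mul_assoc, Matrix.mul_apply]
    refine (Finset.sum_congr rfl fun r _ => ?_).trans (e.trans ?_)
    · rw [Matrix.mul_apply, Finset.sum_eq_single r.rev]
      · simp [J_apply, ctx, M, h.invol]
      · intro c _ hc; simp [J_apply, hc]
      · simp
    · simp only [Fin.cast_inj, Matrix.one_apply, apply_ite σ, map_one, map_zero]
  have hu : IsUnit M.det := by
    refine isUnit_iff_ne_zero.2 fun h0 => one_ne_zero (α := F) ?_
    have := congrArg Matrix.det hM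
    rw [Matrix.det_mul, Matrix.det_mul, Matrix.det_transpose, h0, zero_mul, zero_mul, Matrix.det_one] at this
    exact this.symm
  exact ⟨Matrix.GeneralLinearGroup.mk'' M hu, hM⟩

variable {n} {q : ℕ}

omit [Finite F] in
theorem mem_SU (h : IsInvol σ) (hσq : ∀ x, σ x = x ^ q) (g : SpecialLinearGroup (Fin n) F) :
    g ∈ Cfsg.SU n F q ↔ (g.1)ᵀ * (g.1).map σ = 1 := by
  rw [mem_SU_iff hσq, preserves_iff_cols]
  constructor
  · intro hg
    ext i j
    have := congrArg σ (hg i j)
    rw [hermB_apply, map_sum] at this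
    simpa [Matrix.mul_apply, Matrix.mulVec_single, h.invol, apply_ite σ, Matrix.one_apply] using this
  · intro hg i j
    have := congrArg σ (congrFun (congrFun hg i) j)
    rw [hermB_apply]
    simpa [Matrix.mul_apply, Matrix.mulVec_single, h.invol, apply_ite σ, Matrix.one_apply, map_sum] using this

/-- Conjugation by a matrix in SL. -/
def conjSL (P : GL (Fin n) F) (g : SpecialLinearGroup (Fin n) F) : SpecialLinearGroup (Fin n) F :=
  ⟨(P : Matrix (Fin n) (Fin n) F) * g.1 * ((P⁻¹ : GL (Fin n) F) : Matrix (Fin n) (Fin n) F), by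
    rw [Matrix.det_mul, Matrix.det_mul, g.2, mul_one, ← Matrix.det_mul, ← Units.val_mul, mul_inv_cancel,
      Units.val_one, Matrix.det_one]⟩

omit [Finite F] in
theorem conjSL_coe (P : GL (Fin n) F) (g : SpecialLinearGroup (Fin n) F) :
    (conjSL P g).1 = (P : Matrix (Fin n) (Fin n) F) * g.1 * ((P⁻¹ : GL (Fin n) F) : Matrix (Fin n) (Fin n) F) :=
  rfl

omit [Finite F] in
theorem conjSL_mul (P : GL (Fin n) F) (g g' : SpecialLinearGroup (Fin n) F) :
    conjSL P (g * g') = conjSL P g * conjSL P g' := Subtype.ext <| by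
  show _ = (conjSL P g).1 * (conjSL P g').1
  rw [conjSL_coe, conjSL_coe, conjSL_coe]
  show _ * (g.1 * g'.1) * _ = _
  simp only [Matrix.mul_assoc]
  rw [← Matrix.mul_assoc ((P⁻¹ : GL (Fin n) F) : Matrix (Fin n) (Fin n) F) (P : Matrix (Fin n) (Fin n) F),
    ← Units.val_mul, inv_mul_cancel, Units.val_one, Matrix.one_mul]

omit [Finite F] in
theorem conjSL_inv (P : GL (Fin n) F) (g : SpecialLinearGroup (Fin n) F) : conjSL P⁻¹ (conjSL P g) = g :=
  Subtype.ext <| by
    rw [conjSL_coe, conjSL_coe, inv_inv]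
    simp only [← Matrix.mul_assoc]
    rw [← Units.val_mul, inv_mul_cancel, Units.val_one, Matrix.one_mul, Matrix.mul_assoc, ← Units.val_mul,
      inv_mul_cancel, Units.val_one, Matrix.mul_one]

variable {h : IsInvol σ} {P : GL (Fin n) F}

theorem conjSL_mem (hP : (P : Matrix (Fin n) (Fin n) F)ᵀ * (ctx n h).J * (P : Matrix (Fin n) (Fin n) F).map σ = 1)
    (hσq : ∀ x, σ x = x ^ q) (g : SpecialLinearGroup (Fin n) F) :
    conjSL P g ∈ (ctx n h).G ↔ g ∈ Cfsg.SU n F q := by
  rw [mem_G, mem_SU h hσq, conjSL_coe]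
  set A := (P : Matrix (Fin n) (Fin n) F)
  set B := ((P⁻¹ : GL (Fin n) F) : Matrix (Fin n) (Fin n) F)
  have hBA : B * A = 1 := by rw [← Units.val_mul, inv_mul_cancel, Units.val_one]
  have hAB : A * B = 1 := by rw [← Units.val_mul, mul_inv_cancel, Units.val_one]
  have hBA' : B.map σ * A.map σ = 1 := by rw [← Matrix.map_mul, hBA, Matrix.map_one _ (map_zero σ) (map_one σ)]
  have hJ : (ctx n h).J = Bᵀ * B.map σ := by
    have hAB' : A.map σ * B.map σ = 1 := by rw [← Matrix.map_mul, hAB, Matrix.map_one _ (map_zero σ) (map_one σ)]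
    have : Bᵀ * (Aᵀ * (ctx n h).J * A.map σ) * B.map σ = (ctx n h).J := by
      simp only [← Matrix.mul_assoc]
      rw [← Matrix.transpose_mul, hAB, Matrix.transpose_one, Matrix.one_mul, Matrix.mul_assoc, hAB', Matrix.mul_one]
    rw [hP, Matrix.mul_one] at this
    exact this.symm
  show (A * g.1 * B)ᵀ * (ctx n h).J * (A * g.1 * B).map σ = (ctx n h).J ↔ _
  rw [Matrix.transpose_mul, Matrix.transpose_mul, Matrix.map_mul, Matrix.map_mul]
  constructor
  · intro e
    have e2 := congrArg (fun X => Aᵀ * X * A.map σ) e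
    simp only [← Matrix.mul_assoc] at e2
    rw [← Matrix.transpose_mul B A, hBA, Matrix.transpose_one, Matrix.one_mul,
      Matrix.mul_assoc _ (B.map σ) (A.map σ), hBA', Matrix.mul_one, hP] at e2
    rw [← Matrix.mul_one (g.1)ᵀ]
    conv_lhs => rw [← hP]
    simp only [← Matrix.mul_assoc] at e2 ⊢
    exact e2
  · intro e
    calc _ = Bᵀ * ((g.1)ᵀ * (Aᵀ * (ctx n h).J * A.map σ) * (g.1).map σ) * B.map σ := by
          simp only [Matrix.mul_assoc]
      _ = _ := by rw [hP, Matrix.mul_one, e, Matrix.mul_one, hJ]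

/-- The unitary group is the antidiagonal form group. -/
def suEquiv (hP : (P : Matrix (Fin n) (Fin n) F)ᵀ * (ctx n h).J * (P : Matrix (Fin n) (Fin n) F).map σ = 1)
    (hσq : ∀ x, σ x = x ^ q) : Cfsg.SU n F q ≃* (ctx n h).G where
  toFun g := ⟨conjSL P g.1, (conjSL_mem hP hσq g.1).2 g.2⟩
  invFun g := ⟨conjSL P⁻¹ g.1, (conjSL_mem hP hσq _).1 (by
    rw [show conjSL P (conjSL P⁻¹ g.1) = g.1 by simpa using conjSL_inv P⁻¹ g.1]
    exact g.2)⟩
  left_inv g := Subtype.ext (conjSL_inv P g.1)
  right_inv g := Subtype.ext (by simpa using conjSL_inv P⁻¹ g.1)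
  map_mul' g g' := Subtype.ext (conjSL_mul P g.1 g'.1)

end Cfsg.Agent.FormTri.Unitary
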